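import Groth.Agent.L28.TensorCx
import Mathlib.RingTheory.Flat.Basic
import Mathlib.CategoryTheory.Abelian.Exact

/-!
Tensoring with a bounded above complex of flat modules preserves quasi-isomorphisms
between bounded above complexes.
-/

set_option autoImplicit false
universe u

open CategoryTheory CategoryTheory.Limits MonoidalCategory HomologicalComplex
open scoped TensorProduct
open Groth.L28.TensorCx

namespace Groth.L28.TensorQis

variable {A : Type u} [CommRing A]

lemma preservesHomology_tensorLeft (X : ModuleCat.{u} A) [Module.Flat A X] :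
    (tensorLeft X).PreservesHomology :=
  Functor.preservesHomology_of_map_exact _ fun S hS => by
    rw [ShortComplex.moduleCat_exact_iff_ker_sub_range] at hS ⊢
    have h : Function.Exact S.f.hom S.g.hom := fun y =>
      ⟨fun hy => hS hy, fun ⟨x, hx⟩ => hx ▸ ShortComplex.moduleCat_zero_apply S x⟩
    intro y hy
    exact (Module.Flat.lTensor_exact X h y).mp hy

lemma subsingleton_tensor_left {P : ModuleCat.{u} A} (M : ModuleCat.{u} A) (h : IsZero P) :
    Subsingleton (P ⊗[A] M) := by
  have : Subsingleton P := ModuleCat.isZero_iff_subsingleton.mp h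
  refine ⟨fun a b => ?_⟩
  have : ∀ z : P ⊗[A] M, z = 0 := fun z => z.induction_on rfl
    (fun x y => by rw [Subsingleton.elim x 0, TensorProduct.zero_tmul])
    (fun x y hx hy => by rw [hx, hy, add_zero])
  rw [this a, this b]

lemma subsingleton_tensor_right {P : ModuleCat.{u} A} (M : ModuleCat.{u} A) (h : IsZero P) :
    Subsingleton (M ⊗[A] P) :=
  haveI := subsingleton_tensor_left M h
  (TensorProduct.comm A M P).toEquiv.subsingleton

variable (L : CochainComplex (ModuleCat.{u} A) ℤ) {M Q : CochainComplex (ModuleCat.{u} A) ℤ}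

lemma d_ins' (K : CochainComplex (ModuleCat.{u} A) ℤ) (p q n : ℤ) (h : p + q = n)
    (h₁ : p + 1 + q = n + 1) (h₂ : p + (q + 1) = n + 1) (z : L.X p ⊗[A] K.X q) :
    (tensorObj L K).d n (n + 1) (ins L K p q n h z) =
      ins L K (p + 1) q (n + 1) h₁ (LinearMap.rTensor (K.X q) (L.d p (p + 1)).hom z) +
        ((p.negOnePow : ℤˣ) : ℤ) •
          ins L K p (q + 1) (n + 1) h₂ (LinearMap.lTensor (L.X p) (K.d q (q + 1)).hom z) :=
  by
    have := d_ins L K p q n (n + 1) (p + 1) (q + 1) h (by simp) (by simp) (by simp) h₁ h₂ z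
    rw [ComplexShape.ε_up_ℤ] at this
    exact this

lemma d_mem_fil (K : CochainComplex (ModuleCat.{u} A) ℤ) {n n' r : ℤ} (hn : n + 1 = n')
    {x : (tensorObj L K).X n} (hx : x ∈ fil L K n fun p _ => r ≤ p) :
    (tensorObj L K).d n n' x ∈ fil L K n' fun p _ => r ≤ p := by
  subst hn
  refine fil_le L K (N := (fil L K (n + 1) fun p _ => r ≤ p).comap
    ((tensorObj L K).d n (n + 1)).hom) (fun p q h hp z => ?_) hx
  show (tensorObj L K).d n (n + 1) (ins L K p q n h z) ∈ fil L K (n + 1) fun p _ => r ≤ p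
  rw [d_ins' L K p q n h (by omega) (by omega)]
  refine add_mem (ins_mem_fil L K (n := n + 1) (S := fun p _ => r ≤ p) (by omega) ?_ _)
    (zsmul_mem (ins_mem_fil L K (n := n + 1) (S := fun p _ => r ≤ p) (by omega) hp _) _)
  show r ≤ p + 1
  omega

/-- The inductive step. -/
lemma step (η : M ⟶ Q) [QuasiIso η] (r j q : ℤ) [Module.Flat A (L.X r)] (hq : r + q + 1 = j)
    (x : (tensorObj L M).X j) (y : (tensorObj L Q).X (r + q))
    (hxF : x ∈ fil L M j fun p _ => r ≤ p) (hyF : y ∈ fil L Q (r + q) fun p _ => r ≤ p)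
    (hx : (tensorObj L M).d j (j + 1) x = 0)
    (he : (tensorHom (𝟙 L) η).f j x = (tensorObj L Q).d (r + q) j y) :
    ∃ (u : (tensorObj L M).X (r + q)) (e : (tensorObj L Q).X (r + q - 1)),
      x - (tensorObj L M).d (r + q) j u ∈ fil L M j (fun p _ => r + 1 ≤ p) ∧
      y - (tensorHom (𝟙 L) η).f (r + q) u - (tensorObj L Q).d (r + q - 1) (r + q) e ∈
        fil L Q (r + q) (fun p _ => r + 1 ≤ p) := by
  subst hq
  set σ : ℤ := ((r.negOnePow : ℤˣ) : ℤ) with hσ
  have hσσ : σ * σ = 1 := by rw [hσ, ← Units.val_mul, Int.units_mul_self, Units.val_one]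
  obtain ⟨a, ha⟩ := exists_sub_ins_mem L M (n := r + q + 1) (a := r) (b := q + 1) (by omega)
    (T := fun p _ => r + 1 ≤ p) (fun p s hps hp => by omega) hxF
  obtain ⟨cc, hcc⟩ := exists_sub_ins_mem L Q (n := r + q) (a := r) (b := q) rfl
    (T := fun p _ => r + 1 ≤ p) (fun p s hps hp => by omega) hyF
  -- components of `dx = 0`
  have hda : LinearMap.lTensor (L.X r) (M.d (q + 1) (q + 1 + 1)).hom a = 0 := by
    have h0 := congrArg (proj L M r (q + 1 + 1) (r + q + 1 + 1)) hx
    rw [map_zero, ← sub_add_cancel x (ins L M r (q + 1) (r + q + 1) (by omega) a), map_add,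
      map_add, d_ins' L M r (q + 1) _ (by omega) (by omega) (by omega), map_add, map_zsmul,
      proj_ins_self, proj_ins_ne L M _ (by omega), zero_add,
      proj_eq_zero_of_mem_fil L M (by omega) (d_mem_fil L M rfl ha), zero_add] at h0
    have := congrArg (σ • ·) h0
    simpa [smul_smul, hσσ, ← hσ] using this
  -- components of `f x = d y`
  have hfa : LinearMap.lTensor (L.X r) (η.f (q + 1)).hom a =
      σ • LinearMap.lTensor (L.X r) (Q.d q (q + 1)).hom cc := by
    have h0 := congrArg (proj L Q r (q + 1) (r + q + 1)) he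
    rw [← sub_add_cancel x (ins L M r (q + 1) (r + q + 1) (by omega) a),
      ← sub_add_cancel y (ins L Q r q (r + q) rfl cc), map_add, map_add, map_ins,
      proj_eq_zero_of_mem_fil L Q (by omega) (map_mem_fil _ _ ha), zero_add, proj_ins_self,
      map_add, map_add, proj_eq_zero_of_mem_fil L Q (by omega) (d_mem_fil L Q rfl hcc), zero_add,
      d_ins' L Q r q _ rfl (by omega) (by omega), map_add, map_zsmul, proj_ins_self,
      proj_ins_ne L Q _ (by omega), zero_add] at h0
    rw [← h0]
    rfl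
  have := preservesHomology_tensorLeft (L.X r)
  obtain ⟨b, e, hb', hbe'⟩ : ∃ (b : L.X r ⊗[A] M.X q) (e : L.X r ⊗[A] Q.X (q - 1)),
      LinearMap.lTensor (L.X r) (M.d q (q + 1)).hom b = a ∧
      LinearMap.lTensor (L.X r) (η.f q).hom b +
        LinearMap.lTensor (L.X r) (Q.d (q - 1) q).hom e = σ • cc :=
    HomElt.cone_cond (((tensorLeft (L.X r)).mapHomologicalComplex (ComplexShape.up ℤ)).map η)
      (h := q - 1) (i := q) (j := q + 1) (k := q + 1 + 1) (by simp) (by simp) (by simp) (by simp)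
      a (σ • cc) hda (by
        show LinearMap.lTensor (L.X r) (η.f (q + 1)).hom a =
          LinearMap.lTensor (L.X r) (Q.d q (q + 1)).hom (σ • cc)
        rw [map_zsmul]; exact hfa)
  clear_value σ
  refine ⟨σ • ins L M r q (r + q) rfl b, ins L Q r (q - 1) (r + q - 1) (by omega) e, ?_, ?_⟩
  · rw [map_zsmul, d_ins' L M r q _ rfl (by omega) (by omega), ← hσ, smul_add, smul_smul, hσσ,
      one_smul, hb', ← sub_sub, sub_right_comm]
    exact sub_mem ha (zsmul_mem
      (ins_mem_fil L M (S := fun p _ => r + 1 ≤ p) (by omega) (le_refl (r + 1)) _) _)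
  · rw [map_zsmul, map_ins, HomologicalComplex.id_f, ModuleCat.hom_id, ← LinearMap.lTensor_def]
    have h1 := d_ins L Q r (q - 1) (r + q - 1) (r + q) (r + 1) q (by omega) (by simp) (by simp)
      (by simp) (by omega) rfl e
    rw [ComplexShape.ε_up_ℤ, ← hσ] at h1
    rw [h1]
    have key : σ • ins L Q r q (r + q) rfl (LinearMap.lTensor (L.X r) (η.f q).hom b) +
        σ • ins L Q r q (r + q) rfl (LinearMap.lTensor (L.X r) (Q.d (q - 1) q).hom e) =
        ins L Q r q (r + q) rfl cc := by
      rw [← smul_add, ← map_add, hbe', map_zsmul, smul_smul, hσσ, one_smul]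
    have gen : ∀ {G : Type u} [AddCommGroup G] (y' s t w c' : G), s + t = c' →
        y' - s - (w + t) = (y' - c') - w := by
      intro G _ y' s t w c' hc; rw [← hc]; abel
    rw [gen _ _ _ _ _ key]
    exact sub_mem hcc
      (ins_mem_fil L Q (S := fun p _ => r + 1 ≤ p) (by omega) (le_refl (r + 1)) _)

theorem cone_exact (η : M ⟶ Q) [QuasiIso η] [∀ p, Module.Flat A (L.X p)] (a : ℤ)
    (hL : ∀ p, a < p → IsZero (L.X p)) (j i : ℤ) (hij : i + 1 = j) :
    ∀ (k : ℕ) (x : (tensorObj L M).X j) (y : (tensorObj L Q).X i),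
      x ∈ fil L M j (fun p _ => a + 1 - k ≤ p) → y ∈ fil L Q i (fun p _ => a + 1 - k ≤ p) →
      (tensorObj L M).d j (j + 1) x = 0 →
      (tensorHom (𝟙 L) η).f j x = (tensorObj L Q).d i j y →
      ∃ (u : (tensorObj L M).X i) (e : (tensorObj L Q).X (i - 1)),
        (tensorObj L M).d i j u = x ∧
        (tensorHom (𝟙 L) η).f i u + (tensorObj L Q).d (i - 1) i e = y := by
  intro k
  induction k with
  | zero =>
    intro x y hx hy _ _
    have hz : ∀ (K : CochainComplex (ModuleCat.{u} A) ℤ) (n : ℤ),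
        fil L K n (fun p _ => a + 1 - ((0 : ℕ) : ℤ) ≤ p) = ⊥ := fun K n =>
      fil_eq_bot L K fun p q _ hp => subsingleton_tensor_left _ (hL p (by omega))
    rw [hz, Submodule.mem_bot] at hx hy
    exact ⟨0, 0, by simp [hx], by simp [hy]⟩
  | succ k ih =>
    intro x y hxF hyF hx he
    set r := a + 1 - ((k + 1 : ℕ) : ℤ) with hr
    clear_value r
    obtain ⟨q, rfl⟩ : ∃ q, i = r + q := ⟨i - r, by omega⟩
    obtain ⟨u, e, hu, he'⟩ := step L η r j q hij x y hxF hyF hx he
    obtain ⟨u', e', hu', he''⟩ := ih (x - (tensorObj L M).d (r + q) j u)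
      (y - (tensorHom (𝟙 L) η).f (r + q) u - (tensorObj L Q).d (r + q - 1) (r + q) e)
      (fil_mono L M (fun p s _ h => by omega) hu) (fil_mono L Q (fun p s _ h => by omega) he')
      (by rw [map_sub, hx, ← ConcreteCategory.comp_apply, HomologicalComplex.d_comp_d]; simp)
      (by
        rw [map_sub, map_sub, map_sub, he, ← ConcreteCategory.comp_apply,
          ← ConcreteCategory.comp_apply ((tensorHom (𝟙 L) η).f (r + q)),
          ← ConcreteCategory.comp_apply ((tensorObj L Q).d (r + q - 1) (r + q)),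
          HomologicalComplex.d_comp_d, HomologicalComplex.Hom.comm]
        simp)
    exact ⟨u + u', e + e', by rw [map_add, hu', add_sub_cancel],
      by rw [map_add, map_add, add_add_add_comm, he'']; abel⟩

theorem quasiIso (η : M ⟶ Q) [QuasiIso η] [∀ p, Module.Flat A (L.X p)] (a b : ℤ)
    (hL : ∀ p, a < p → IsZero (L.X p)) (hM : ∀ p, b < p → IsZero (M.X p))
    (hQ : ∀ p, b < p → IsZero (Q.X p)) : QuasiIso (tensorHom (𝟙 L) η) := by
  have main : ∀ (j i : ℤ), i + 1 = j → ∀ (x : (tensorObj L M).X j) (y : (tensorObj L Q).X i),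
      (tensorObj L M).d j (j + 1) x = 0 →
      (tensorHom (𝟙 L) η).f j x = (tensorObj L Q).d i j y →
      ∃ (u : (tensorObj L M).X i) (e : (tensorObj L Q).X (i - 1)),
        (tensorObj L M).d i j u = x ∧
        (tensorHom (𝟙 L) η).f i u + (tensorObj L Q).d (i - 1) i e = y := by
    intro j i hij x y hx he
    obtain ⟨k, hk⟩ : ∃ k : ℕ, a + 1 - (k : ℤ) ≤ i - b :=
      ⟨(a + 1 - (i - b)).toNat, by omega⟩
    have hMF : fil L M j (fun p _ => a + 1 - (k : ℤ) ≤ p) = ⊤ :=
      fil_eq_top L M fun p q hpq hp => subsingleton_tensor_right _ (hM q (by omega))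
    have hQF : fil L Q i (fun p _ => a + 1 - (k : ℤ) ≤ p) = ⊤ :=
      fil_eq_top L Q fun p q hpq hp => subsingleton_tensor_right _ (hQ q (by omega))
    exact cone_exact L η a hL j i hij k x y (hMF ▸ Submodule.mem_top) (hQF ▸ Submodule.mem_top)
      hx he
  refine HomElt.quasiIso_of_bijective _ fun j => ⟨?_, ?_⟩
  · refine (HomElt.injective_homologyMap_iff _ (i := j - 1) (k := j + 1) (by simp) (by simp)).mpr ?_
    intro x w hx he
    obtain ⟨u, e, hu, -⟩ := main j (j - 1) (by omega) x w hx he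
    exact ⟨u, hu⟩
  · refine (HomElt.surjective_homologyMap_iff _ (i := j - 1) (k := j + 1) (by simp) (by simp)).mpr ?_
    intro y hy
    obtain ⟨u, e, hu, he⟩ := main (j + 1) j rfl 0 y (by simp) (by simp [hy])
    exact ⟨u, e, hu, he⟩

end Groth.L28.TensorQis
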