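import Mathlib.Algebra.Category.ModuleCat.Abelian
import Mathlib.Algebra.Homology.ShortComplex.ModuleCat
import Mathlib.Algebra.Homology.QuasiIso
import Mathlib.Algebra.Homology.HomologicalComplexAbelian
import Mathlib.Algebra.Homology.ShortComplex.Abelian

/-!
Elements of cycles and homology of complexes of modules.
-/

set_option autoImplicit false
universe u v w

open CategoryTheory CategoryTheory.Limits

namespace Groth.L28.HomElt

variable {R : Type u} [Ring R] {ι : Type w} {c : ComplexShape ι}
  {K L : HomologicalComplex (ModuleCat.{v} R) c}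

lemma iCycles_injective (K : HomologicalComplex (ModuleCat.{v} R) c) (j : ι) :
    Function.Injective (K.iCycles j) :=
  (ModuleCat.mono_iff_injective _).mp inferInstance

lemma homologyπ_surjective (K : HomologicalComplex (ModuleCat.{v} R) c) (j : ι) :
    Function.Surjective (K.homologyπ j) :=
  (ModuleCat.epi_iff_surjective _).mp inferInstance

lemma d_iCycles (j k : ι) (z : K.cycles j) : K.d j k (K.iCycles j z) = 0 := by
  rw [← ConcreteCategory.comp_apply, K.iCycles_d j k]
  simp

lemma exists_cycle {j k : ι} (hk : c.next j = k) (x : K.X j) (hx : K.d j k x = 0) :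
    ∃ z : K.cycles j, K.iCycles j z = x := by
  subst hk
  have h := ShortComplex.exact_of_f_is_kernel
    (ShortComplex.mk (K.iCycles j) (K.d j (c.next j)) (K.iCycles_d j _))
    (K.cyclesIsKernel j (c.next j) rfl)
  exact (ShortComplex.moduleCat_exact_iff _).mp h x hx

lemma π_eq_zero_iff {i j : ι} (hi : c.prev j = i) (z : K.cycles j) :
    K.homologyπ j z = 0 ↔ ∃ y : K.X i, K.d i j y = K.iCycles j z := by
  have h := ShortComplex.exact_of_g_is_cokernel
    (ShortComplex.mk (K.toCycles i j) (K.homologyπ j) (K.toCycles_comp_homologyπ i j))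
    (K.homologyIsCokernel i j hi)
  constructor
  · intro hz
    obtain ⟨y, hy⟩ := (ShortComplex.moduleCat_exact_iff _).mp h z hz
    refine ⟨y, ?_⟩
    rw [← K.toCycles_i i j, ConcreteCategory.comp_apply]
    exact congrArg _ hy
  · rintro ⟨y, hy⟩
    have : K.toCycles i j y = z := iCycles_injective K j (by
      rw [← ConcreteCategory.comp_apply, K.toCycles_i i j]; exact hy)
    rw [← this, ← ConcreteCategory.comp_apply, K.toCycles_comp_homologyπ i j]
    simp

lemma exists_cycle_π {j : ι} (h : K.homology j) : ∃ z : K.cycles j, K.homologyπ j z = h :=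
  homologyπ_surjective K j h

lemma homologyMap_π (φ : K ⟶ L) (j : ι) (z : K.cycles j) :
    HomologicalComplex.homologyMap φ j (K.homologyπ j z) =
      L.homologyπ j (HomologicalComplex.cyclesMap φ j z) := by
  rw [← ConcreteCategory.comp_apply, HomologicalComplex.homologyπ_naturality]
  rfl

lemma iCycles_cyclesMap (φ : K ⟶ L) (j : ι) (z : K.cycles j) :
    L.iCycles j (HomologicalComplex.cyclesMap φ j z) = φ.f j (K.iCycles j z) := by
  rw [← ConcreteCategory.comp_apply, HomologicalComplex.cyclesMap_i]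
  rfl

lemma exactAt_iff {i j k : ι} (hi : c.prev j = i) (hk : c.next j = k) :
    K.ExactAt j ↔ ∀ x : K.X j, K.d j k x = 0 → ∃ y : K.X i, K.d i j y = x := by
  rw [HomologicalComplex.exactAt_iff' K i j k hi hk]
  exact ShortComplex.moduleCat_exact_iff _

lemma isZero_homology_iff {i j k : ι} (hi : c.prev j = i) (hk : c.next j = k) :
    IsZero (K.homology j) ↔ ∀ x : K.X j, K.d j k x = 0 → ∃ y : K.X i, K.d i j y = x :=
  (HomologicalComplex.exactAt_iff_isZero_homology K j).symm.trans (exactAt_iff hi hk)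

lemma surjective_homologyMap_iff (φ : K ⟶ L) {i j k : ι} (hi : c.prev j = i) (hk : c.next j = k) :
    Function.Surjective (HomologicalComplex.homologyMap φ j) ↔
      ∀ y : L.X j, L.d j k y = 0 →
        ∃ (x : K.X j) (w : L.X i), K.d j k x = 0 ∧ φ.f j x + L.d i j w = y := by
  constructor
  · intro h y hy
    obtain ⟨z', rfl⟩ := exists_cycle hk y hy
    obtain ⟨a, ha⟩ := h (L.homologyπ j z')
    obtain ⟨z, rfl⟩ := homologyπ_surjective K j a
    rw [homologyMap_π, ← sub_eq_zero, ← map_sub, π_eq_zero_iff hi] at ha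
    obtain ⟨w, hw⟩ := ha
    rw [map_sub, iCycles_cyclesMap] at hw
    refine ⟨K.iCycles j z, -w, d_iCycles j k z, ?_⟩
    rw [map_neg, hw, neg_sub, add_sub_cancel]
  · intro h a
    obtain ⟨z', rfl⟩ := homologyπ_surjective L j a
    obtain ⟨x, w, hx, he⟩ := h (L.iCycles j z') (d_iCycles j k z')
    obtain ⟨z, rfl⟩ := exists_cycle hk x hx
    refine ⟨K.homologyπ j z, ?_⟩
    rw [homologyMap_π, ← sub_eq_zero, ← map_sub, π_eq_zero_iff hi]
    refine ⟨-w, ?_⟩
    rw [map_sub, iCycles_cyclesMap, map_neg, ← he]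
    abel

lemma injective_homologyMap_iff (φ : K ⟶ L) {i j k : ι} (hi : c.prev j = i) (hk : c.next j = k) :
    Function.Injective (HomologicalComplex.homologyMap φ j) ↔
      ∀ (x : K.X j) (w : L.X i), K.d j k x = 0 → φ.f j x = L.d i j w →
        ∃ u : K.X i, K.d i j u = x := by
  constructor
  · intro h x w hx he
    obtain ⟨z, rfl⟩ := exists_cycle hk x hx
    refine (π_eq_zero_iff hi z).mp (h ?_)
    rw [map_zero, homologyMap_π, π_eq_zero_iff hi]
    exact ⟨w, by rw [iCycles_cyclesMap]; exact he.symm⟩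
  · intro h
    rw [injective_iff_map_eq_zero]
    intro a ha
    obtain ⟨z, rfl⟩ := homologyπ_surjective K j a
    rw [homologyMap_π, π_eq_zero_iff hi] at ha
    obtain ⟨w, hw⟩ := ha
    rw [iCycles_cyclesMap] at hw
    exact (π_eq_zero_iff hi z).mpr (h _ w (d_iCycles j k z) hw.symm)

lemma isIso_homologyMap_iff (φ : K ⟶ L) (j : ι) :
    IsIso (HomologicalComplex.homologyMap φ j) ↔
      Function.Bijective (HomologicalComplex.homologyMap φ j) :=
  ConcreteCategory.isIso_iff_bijective _

lemma bijective_homologyMap_of_quasiIso (φ : K ⟶ L) [QuasiIso φ] (j : ι) :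
    Function.Bijective (HomologicalComplex.homologyMap φ j) :=
  (isIso_homologyMap_iff φ j).mp inferInstance

lemma quasiIso_of_bijective (φ : K ⟶ L)
    (h : ∀ j, Function.Bijective (HomologicalComplex.homologyMap φ j)) : QuasiIso φ :=
  ⟨fun j => (quasiIsoAt_iff_isIso_homologyMap φ j).mpr ((isIso_homologyMap_iff φ j).mpr (h j))⟩

/-- The acyclicity of the cone of `φ`, on elements. -/
lemma cone_cond (φ : K ⟶ L) [QuasiIso φ] {h i j k : ι} (hh : c.prev i = h) (hi : c.prev j = i)
    (hji : c.next i = j) (hk : c.next j = k) (x : K.X j) (y : L.X i)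
    (hx : K.d j k x = 0) (he : φ.f j x = L.d i j y) :
    ∃ (u : K.X i) (e : L.X h), K.d i j u = x ∧ φ.f i u + L.d h i e = y := by
  obtain ⟨u, hu⟩ := (injective_homologyMap_iff φ hi hk).mp
    (bijective_homologyMap_of_quasiIso φ j).1 x y hx he
  have hy : L.d i j (y - φ.f i u) = 0 := by
    rw [map_sub, ← he, ← hu, ← ConcreteCategory.comp_apply, ← ConcreteCategory.comp_apply,
      ← HomologicalComplex.Hom.comm, sub_self]
  obtain ⟨z, e, hz, hze⟩ := (surjective_homologyMap_iff φ hh hji).mp
    (bijective_homologyMap_of_quasiIso φ i).2 _ hy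
  refine ⟨u + z, e, by rw [map_add, hu, hz, add_zero], ?_⟩
  rw [map_add, add_assoc, hze, add_sub_cancel]

end Groth.L28.HomElt
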