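import Groth.Agent.L28.Balance

/-!
Tor of modules: balance, vanishing for flat modules in either variable.
-/

set_option autoImplicit false
universe u

open CategoryTheory CategoryTheory.Limits MonoidalCategory HomologicalComplex
open scoped TensorProduct

namespace Groth.L28.TorFacts

variable {A : Type u} [CommRing A] {M N : ModuleCat.{u} A}

/-- `Tor_n(M, N)` from any flat resolution of `M`. -/
theorem nonempty_iso_left (P : ChainComplex (ModuleCat.{u} A) ℕ) (ε : P.X 0 ⟶ M)
    (hP : Balance.IsRes P ε) (n : ℕ) :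
    Nonempty (((CategoryTheory.Tor (ModuleCat.{u} A) n).obj M).obj N ≅
      (((tensorRight N).mapHomologicalComplex (ComplexShape.down ℕ)).obj P).homology n) := by
  let Q := projectiveResolution N
  have hQ := Balance.isRes_projectiveResolution Q
  obtain ⟨φ₁, -, h₁⟩ := Balance.exists_iso₁ P Q.complex (Q.π.f 0) hQ hP.flat
  obtain ⟨φ₂, -, h₂⟩ := Balance.exists_iso₂ P Q.complex ε hP hQ.flat
  have i₁ : IsIso (HomologicalComplex.homologyMap φ₁ n) :=
    (HomElt.isIso_homologyMap_iff φ₁ n).mpr (@HomElt.bijective_homologyMap_of_quasiIso _ _ _ _ _ _ φ₁ h₁ n)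
  have i₂ : IsIso (HomologicalComplex.homologyMap φ₂ n) :=
    (HomElt.isIso_homologyMap_iff φ₂ n).mpr (@HomElt.bijective_homologyMap_of_quasiIso _ _ _ _ _ _ φ₂ h₂ n)
  exact ⟨Q.isoLeftDerivedObj ((tensoringLeft _).obj M) n ≪≫
    (@asIso _ _ _ _ (HomologicalComplex.homologyMap φ₂ n) i₂).symm ≪≫
      @asIso _ _ _ _ (HomologicalComplex.homologyMap φ₁ n) i₁⟩

theorem isZero_of_flat_left (M N : ModuleCat.{u} A) [Module.Flat A M] (n : ℕ) :
    IsZero (((CategoryTheory.Tor (ModuleCat.{u} A) (n + 1)).obj M).obj N) := by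
  let Q := projectiveResolution N
  refine IsZero.of_iso ?_ (Q.isoLeftDerivedObj ((tensoringLeft _).obj M) (n + 1))
  refine (HomElt.isZero_homology_iff (i := n + 2) (k := n) ?_ ?_).mpr ?_
  · exact (ComplexShape.down ℕ).prev_eq' rfl
  · exact (ComplexShape.down ℕ).next_eq' rfl
  · intro x hx
    exact (Module.Flat.lTensor_exact M ((Balance.isRes_projectiveResolution Q).exact n) x).mp hx

theorem isZero_of_flat_right (N M : ModuleCat.{u} A) [Module.Flat A M] (n : ℕ) :
    IsZero (((CategoryTheory.Tor (ModuleCat.{u} A) (n + 1)).obj N).obj M) := by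
  let P := projectiveResolution N
  obtain ⟨e⟩ := nonempty_iso_left (N := M) P.complex (P.π.f 0)
    (Balance.isRes_projectiveResolution P) (n + 1)
  refine IsZero.of_iso ?_ e
  refine (HomElt.isZero_homology_iff (i := n + 2) (k := n) ?_ ?_).mpr ?_
  · exact (ComplexShape.down ℕ).prev_eq' rfl
  · exact (ComplexShape.down ℕ).next_eq' rfl
  · intro x hx
    exact (Module.Flat.rTensor_exact M ((Balance.isRes_projectiveResolution P).exact n) x).mp hx

/-- `Tor_n(M, N)` from any flat resolution of `N`. -/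
theorem nonempty_iso_right (C : ChainComplex (ModuleCat.{u} A) ℕ) (ε : C.X 0 ⟶ N)
    (hC : Balance.IsRes C ε) (n : ℕ) :
    Nonempty (((CategoryTheory.Tor (ModuleCat.{u} A) n).obj M).obj N ≅
      (((tensorLeft M).mapHomologicalComplex (ComplexShape.down ℕ)).obj C).homology n) := by
  let P := projectiveResolution M
  have hP := Balance.isRes_projectiveResolution P
  obtain ⟨e⟩ := nonempty_iso_left (N := N) P.complex (P.π.f 0) hP n
  obtain ⟨φ₁, -, h₁⟩ := Balance.exists_iso₁ P.complex C ε hC hP.flat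
  obtain ⟨φ₂, -, h₂⟩ := Balance.exists_iso₂ P.complex C (P.π.f 0) hP hC.flat
  have i₁ : IsIso (HomologicalComplex.homologyMap φ₁ n) :=
    (HomElt.isIso_homologyMap_iff φ₁ n).mpr (@HomElt.bijective_homologyMap_of_quasiIso _ _ _ _ _ _ φ₁ h₁ n)
  have i₂ : IsIso (HomologicalComplex.homologyMap φ₂ n) :=
    (HomElt.isIso_homologyMap_iff φ₂ n).mpr (@HomElt.bijective_homologyMap_of_quasiIso _ _ _ _ _ _ φ₂ h₂ n)
  exact ⟨e ≪≫ (@asIso _ _ _ _ (HomologicalComplex.homologyMap φ₁ n) i₁).symm ≪≫
      @asIso _ _ _ _ (HomologicalComplex.homologyMap φ₂ n) i₂⟩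

end Groth.L28.TorFacts
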