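import Groth.Agent.L28.TorFacts
import Mathlib.LinearAlgebra.TensorProduct.Tower
import Mathlib.RingTheory.Flat.Stability
import Mathlib.RingTheory.Flat.Localization
import Mathlib.RingTheory.Localization.BaseChange

/-!
Tor and change of rings.
-/

set_option autoImplicit false
universe u

open CategoryTheory CategoryTheory.Limits MonoidalCategory HomologicalComplex
open scoped TensorProduct

namespace Groth.L28.TorBC

variable {A A' : Type u} [CommRing A] [CommRing A']

/-- A termwise bijective semilinear map of complexes gives one on homology. -/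
theorem semilinear_homology {σ : A →+* A'} {C : ChainComplex (ModuleCat.{u} A) ℕ}
    {C' : ChainComplex (ModuleCat.{u} A') ℕ} (f : ∀ n, C.X n →ₛₗ[σ] C'.X n)
    (hf : ∀ n, Function.Bijective (f n))
    (hd : ∀ n x, f n (C.d (n + 1) n x) = C'.d (n + 1) n (f (n + 1) x)) (n : ℕ) :
    ∃ φ : C.homology n →ₛₗ[σ] C'.homology n, Function.Bijective φ := by
  set k := (ComplexShape.down ℕ).next n
  have hp : (ComplexShape.down ℕ).prev n = n + 1 := (ComplexShape.down ℕ).prev_eq' rfl
  have hdk : ∀ x, f k (C.d n k x) = C'.d n k (f n x) := by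
    intro x
    rcases n with _ | m
    · rw [C.shape 0 k (by simp), C'.shape 0 k (by simp)]
      simp
    · have hk : k = m := (ComplexShape.down ℕ).next_eq' rfl
      rw [hk]
      exact hd m x
  have hcyc : ∀ z : C.cycles n, ∃ z' : C'.cycles n, C'.iCycles n z' = f n (C.iCycles n z) :=
    fun z => HomElt.exists_cycle rfl _ (by rw [← hdk, HomElt.d_iCycles, map_zero])
  choose g hg using hcyc
  let gl : C.cycles n →ₛₗ[σ] C'.cycles n :=
    { toFun := g
      map_add' := fun a b => HomElt.iCycles_injective C' n (by simp [hg])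
      map_smul' := fun a b => HomElt.iCycles_injective C' n (by simp [hg, LinearMap.map_smulₛₗ]) }
  let ψ : C.cycles n →ₛₗ[σ] C'.homology n := (C'.homologyπ n).hom.comp gl
  have hker : LinearMap.ker (C.homologyπ n).hom ≤ LinearMap.ker ψ := by
    intro z hz
    obtain ⟨y, hy⟩ := (HomElt.π_eq_zero_iff hp z).mp hz
    show C'.homologyπ n (g z) = 0
    exact (HomElt.π_eq_zero_iff hp _).mpr ⟨f (n + 1) y, by rw [← hd, hy, hg]⟩
  let e := (C.homologyπ n).hom.quotKerEquivOfSurjective (HomElt.homologyπ_surjective C n)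
  let φ : C.homology n →ₛₗ[σ] C'.homology n := (Submodule.liftQ _ ψ hker).comp e.symm.toLinearMap
  have hφ : ∀ z, φ (C.homologyπ n z) = C'.homologyπ n (g z) := by
    intro z
    have he : e.symm (C.homologyπ n z) = Submodule.Quotient.mk z := by
      apply e.injective
      rw [LinearEquiv.apply_symm_apply]
      exact ((C.homologyπ n).hom.quotKerEquivOfSurjective_apply_mk
        (HomElt.homologyπ_surjective C n) z).symm
    show Submodule.liftQ _ ψ hker (e.symm (C.homologyπ n z)) = _
    rw [he]
    rfl
  refine ⟨φ, (injective_iff_map_eq_zero φ).mpr fun h hh => ?_, fun h' => ?_⟩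
  · obtain ⟨z, rfl⟩ := HomElt.homologyπ_surjective C n h
    rw [hφ, HomElt.π_eq_zero_iff hp] at hh
    obtain ⟨y', hy'⟩ := hh
    obtain ⟨y, rfl⟩ := (hf (n + 1)).2 y'
    refine (HomElt.π_eq_zero_iff hp z).mpr ⟨y, (hf n).1 ?_⟩
    rw [hd, hy', hg]
  · obtain ⟨z', rfl⟩ := HomElt.homologyπ_surjective C' n h'
    obtain ⟨x, hx⟩ := (hf n).2 (C'.iCycles n z')
    obtain ⟨z, rfl⟩ := HomElt.exists_cycle rfl x ((hf k).1 (by
      rw [hdk, hx, map_zero, HomElt.d_iCycles]))
    refine ⟨C.homologyπ n z, ?_⟩
    rw [hφ]
    exact congrArg _ (HomElt.iCycles_injective C' n (by rw [hg, hx]))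

theorem semilinear_conj {σ : A →+* A'} {X Y : ModuleCat.{u} A} {X' Y' : ModuleCat.{u} A'}
    (e : X ≅ Y) (e' : Y' ≅ X') (h : ∃ φ : Y →ₛₗ[σ] Y', Function.Bijective φ) :
    ∃ φ : X →ₛₗ[σ] X', Function.Bijective φ := by
  obtain ⟨φ, hφ⟩ := h
  exact ⟨(e'.toLinearEquiv.toLinearMap.comp φ).comp e.toLinearEquiv.toLinearMap,
    e'.toLinearEquiv.bijective.comp (hφ.comp e.toLinearEquiv.bijective)⟩

variable [Algebra A A']

/-- Base change of a chain complex. -/
noncomputable def bcCx (C : ChainComplex (ModuleCat.{u} A) ℕ) :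
    ChainComplex (ModuleCat.{u} A') ℕ :=
  ChainComplex.of (fun j => ModuleCat.of A' (A' ⊗[A] C.X j))
    (fun j => ModuleCat.ofHom ((C.d (j + 1) j).hom.baseChange A')) (fun j => by
      ext1
      show ((C.d (j + 1) j).hom.baseChange A') ∘ₗ ((C.d (j + 1 + 1) (j + 1)).hom.baseChange A') = 0
      rw [← LinearMap.baseChange_comp, ← ModuleCat.hom_comp, HomologicalComplex.d_comp_d,
        ModuleCat.hom_zero, LinearMap.baseChange_zero])

lemma bcCx_d (C : ChainComplex (ModuleCat.{u} A) ℕ) (j : ℕ) :
    (bcCx (A' := A') C).d (j + 1) j = ModuleCat.ofHom ((C.d (j + 1) j).hom.baseChange A') :=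
  by simp [bcCx]

/-- The augmentation of the base change. -/
noncomputable def bcAug {C : ChainComplex (ModuleCat.{u} A) ℕ} {N : ModuleCat.{u} A}
    (ε : C.X 0 ⟶ N) : (bcCx (A' := A') C).X 0 ⟶ ModuleCat.of A' (A' ⊗[A] N) :=
  ModuleCat.ofHom (ε.hom.baseChange A')

theorem isRes_bc {C : ChainComplex (ModuleCat.{u} A) ℕ} {N : ModuleCat.{u} A} {ε : C.X 0 ⟶ N}
    (h : Balance.IsRes C ε)
    (hex : ∀ n, Function.Exact ((C.d (n + 2) (n + 1)).hom.lTensor A')
      ((C.d (n + 1) n).hom.lTensor A')) :
    Balance.IsRes (bcCx (A' := A') C) (bcAug ε) where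
  surj := by
    show Function.Surjective (ε.hom.baseChange A')
    rw [LinearMap.baseChange_eq_ltensor]
    exact LinearMap.lTensor_surjective A' h.surj
  exact₀ := by
    rw [bcCx_d]
    show Function.Exact ((C.d 1 0).hom.baseChange A') (ε.hom.baseChange A')
    rw [LinearMap.baseChange_eq_ltensor, LinearMap.baseChange_eq_ltensor]
    exact lTensor_exact A' h.exact₀ h.surj
  exact := fun n => by
    rw [bcCx_d, bcCx_d]
    show Function.Exact ((C.d (n + 2) (n + 1)).hom.baseChange A')
      ((C.d (n + 1) n).hom.baseChange A')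
    rw [LinearMap.baseChange_eq_ltensor, LinearMap.baseChange_eq_ltensor]
    exact hex n
  flat := fun n => by
    have := h.flat n
    show Module.Flat A' (A' ⊗[A] C.X n)
    infer_instance

section left

variable (P' : Type u) [AddCommGroup P'] [Module A' P'] [Module A P'] [IsScalarTower A A' P']

/-- Flat base change in the second variable. -/
theorem flat_baseChange [Module.Flat A A'] (Q : ModuleCat.{u} A) (n : ℕ) :
    ∃ φ : ((CategoryTheory.Tor (ModuleCat.{u} A) n).obj (ModuleCat.of A P')).obj Q →ₛₗ[algebraMap A A']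
        ((CategoryTheory.Tor (ModuleCat.{u} A') n).obj (ModuleCat.of A' P')).obj
          (ModuleCat.of A' (A' ⊗[A] Q)), Function.Bijective φ := by
  let R := projectiveResolution Q
  have hR := Balance.isRes_projectiveResolution R
  obtain ⟨e'⟩ := TorFacts.nonempty_iso_right (M := ModuleCat.of A' P') (bcCx (A' := A') R.complex)
    (bcAug (R.π.f 0)) (isRes_bc hR fun m => Module.Flat.lTensor_exact A' (hR.exact m)) n
  refine semilinear_conj (R.isoLeftDerivedObj ((tensoringLeft _).obj (ModuleCat.of A P')) n) e'.symm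
    (semilinear_homology (fun j => ?_) (fun j => ?_) (fun j x => ?_) n)
  · exact (show (P' ⊗[A] R.complex.X j) →ₛₗ[algebraMap A A'] (P' ⊗[A'] (A' ⊗[A] R.complex.X j)) from
    { toFun := fun x =>
        (TensorProduct.AlgebraTensorModule.cancelBaseChange A A' A' P' (R.complex.X j)).symm x
      map_add' := fun x y => map_add _ x y
      map_smul' := fun a x => by
        show (TensorProduct.AlgebraTensorModule.cancelBaseChange A A' A' P' (R.complex.X j)).symm
          (a • (x : P' ⊗[A] R.complex.X j)) = _
        rw [← algebraMap_smul A' a (x : P' ⊗[A] R.complex.X j), map_smul] })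
  · exact (TensorProduct.AlgebraTensorModule.cancelBaseChange A A' A' P' (R.complex.X j)).symm.bijective
  · show (TensorProduct.AlgebraTensorModule.cancelBaseChange A A' A' P' (R.complex.X j)).symm
        ((R.complex.d (j + 1) j).hom.lTensor P' x) =
      ((bcCx (A' := A') R.complex).d (j + 1) j).hom.lTensor P'
        ((TensorProduct.AlgebraTensorModule.cancelBaseChange A A' A' P' (R.complex.X (j + 1))).symm x)
    rw [bcCx_d]
    induction (x : P' ⊗[A] R.complex.X (j + 1)) using TensorProduct.induction_on with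
    | zero => simp only [map_zero]; exact (map_zero _).symm
    | tmul m y =>
      rw [LinearMap.lTensor_tmul, TensorProduct.AlgebraTensorModule.cancelBaseChange_symm_tmul,
        TensorProduct.AlgebraTensorModule.cancelBaseChange_symm_tmul]
      exact (congrArg (m ⊗ₜ[A'] ·) (LinearMap.baseChange_tmul _ _ _)).symm
    | add x y hx hy => rw [map_add, map_add]; simp only [hx, hy, map_add]; exact (map_add _ _ _).symm

end left

/-- Base change when `Tor_q(P, A') = 0` for `q > 0`. -/
theorem baseChange_of_tor_vanishing (P : ModuleCat.{u} A) (Q' : Type u) [AddCommGroup Q']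
    [Module A' Q'] [Module A Q'] [IsScalarTower A A' Q']
    (hP : ∀ q : ℕ,
      IsZero (((CategoryTheory.Tor (ModuleCat.{u} A) (q + 1)).obj P).obj (ModuleCat.of A A'))) (n : ℕ) :
    ∃ φ : ((CategoryTheory.Tor (ModuleCat.{u} A) n).obj P).obj (ModuleCat.of A Q') →ₛₗ[algebraMap A A']
        ((CategoryTheory.Tor (ModuleCat.{u} A') n).obj (ModuleCat.of A' (A' ⊗[A] P))).obj
          (ModuleCat.of A' Q'), Function.Bijective φ := by
  let R := projectiveResolution P
  have hR := Balance.isRes_projectiveResolution R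
  have hex : ∀ m, Function.Exact ((R.complex.d (m + 2) (m + 1)).hom.lTensor A')
      ((R.complex.d (m + 1) m).hom.lTensor A') := by
    intro m
    obtain ⟨e⟩ := TorFacts.nonempty_iso_left (N := ModuleCat.of A A') R.complex (R.π.f 0) hR (m + 1)
    have hz := (HomElt.isZero_homology_iff (i := m + 2) (k := m)
      ((ComplexShape.down ℕ).prev_eq' rfl) ((ComplexShape.down ℕ).next_eq' rfl)).mp
      (IsZero.of_iso (hP m) e.symm)
    have hex' : Function.Exact ((R.complex.d (m + 2) (m + 1)).hom.rTensor A')
        ((R.complex.d (m + 1) m).hom.rTensor A') := by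
      intro x
      refine ⟨fun hx => hz x hx, ?_⟩
      rintro ⟨y, rfl⟩
      rw [← LinearMap.comp_apply, ← LinearMap.rTensor_comp,
        (hR.exact m).linearMap_comp_eq_zero, LinearMap.rTensor_zero, LinearMap.zero_apply]
    exact (Function.Exact.iff_of_ladder_linearEquiv
      (e₁ := TensorProduct.comm A (R.complex.X (m + 2)) A')
      (e₂ := TensorProduct.comm A (R.complex.X (m + 1)) A')
      (e₃ := TensorProduct.comm A (R.complex.X m) A')
      (LinearMap.lTensor_comp_comm _) (LinearMap.lTensor_comp_comm _)).mpr hex'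
  obtain ⟨e⟩ := TorFacts.nonempty_iso_left (N := ModuleCat.of A Q') R.complex (R.π.f 0) hR n
  obtain ⟨e'⟩ := TorFacts.nonempty_iso_left (N := ModuleCat.of A' Q') (bcCx (A' := A') R.complex)
    (bcAug (R.π.f 0)) (isRes_bc hR hex) n
  refine semilinear_conj e e'.symm (semilinear_homology (fun j => ?_) (fun j => ?_) (fun j x => ?_) n)
  · exact (show (R.complex.X j ⊗[A] Q') →ₛₗ[algebraMap A A'] ((A' ⊗[A] R.complex.X j) ⊗[A'] Q') from
    { toFun := fun x => TensorProduct.comm A' Q' (A' ⊗[A] R.complex.X j)
        ((TensorProduct.AlgebraTensorModule.cancelBaseChange A A' A' Q' (R.complex.X j)).symm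
          (TensorProduct.comm A (R.complex.X j) Q' x))
      map_add' := fun x y => by
        rw [map_add, map_add, map_add]
      map_smul' := fun a x => by
        show TensorProduct.comm A' Q' (A' ⊗[A] R.complex.X j)
          ((TensorProduct.AlgebraTensorModule.cancelBaseChange A A' A' Q' (R.complex.X j)).symm
            (TensorProduct.comm A (R.complex.X j) Q' (a • (x : R.complex.X j ⊗[A] Q')))) = _
        rw [map_smul, ← algebraMap_smul A' a (TensorProduct.comm A (R.complex.X j) Q' x), map_smul,
          map_smul] })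
  · exact (TensorProduct.comm A' Q' _).bijective.comp
      ((TensorProduct.AlgebraTensorModule.cancelBaseChange A A' A' Q' (R.complex.X j)).symm.bijective.comp
        (TensorProduct.comm A _ Q').bijective)
  · show TensorProduct.comm A' Q' (A' ⊗[A] R.complex.X j)
        ((TensorProduct.AlgebraTensorModule.cancelBaseChange A A' A' Q' (R.complex.X j)).symm
          (TensorProduct.comm A (R.complex.X j) Q' ((R.complex.d (j + 1) j).hom.rTensor Q' x))) =
      ((bcCx (A' := A') R.complex).d (j + 1) j).hom.rTensor Q'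
        (TensorProduct.comm A' Q' (A' ⊗[A] R.complex.X (j + 1))
          ((TensorProduct.AlgebraTensorModule.cancelBaseChange A A' A' Q' (R.complex.X (j + 1))).symm
            (TensorProduct.comm A (R.complex.X (j + 1)) Q' x)))
    rw [bcCx_d]
    induction (x : R.complex.X (j + 1) ⊗[A] Q') using TensorProduct.induction_on with
    | zero => simp only [map_zero]; exact (map_zero _).symm
    | tmul y m =>
      rw [LinearMap.rTensor_tmul, TensorProduct.comm_tmul, TensorProduct.comm_tmul,
        TensorProduct.AlgebraTensorModule.cancelBaseChange_symm_tmul,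
        TensorProduct.AlgebraTensorModule.cancelBaseChange_symm_tmul,
        TensorProduct.comm_tmul, TensorProduct.comm_tmul]
      exact (congrArg (· ⊗ₜ[A'] m) (LinearMap.baseChange_tmul _ _ _)).symm
    | add x y hx hy => rw [map_add, map_add]; simp only [hx, hy, map_add]; exact (map_add _ _ _).symm

/-- Localization. -/
theorem localization (S : Submonoid A) [IsLocalization S A'] (P Q : Type u) [AddCommGroup P]
    [Module A' P] [Module A P] [IsScalarTower A A' P] [AddCommGroup Q] [Module A' Q] [Module A Q]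
    [IsScalarTower A A' Q] (n : ℕ) :
    ∃ φ : ((CategoryTheory.Tor (ModuleCat.{u} A) n).obj (ModuleCat.of A P)).obj (ModuleCat.of A Q)
        →ₛₗ[algebraMap A A']
        ((CategoryTheory.Tor (ModuleCat.{u} A') n).obj (ModuleCat.of A' P)).obj (ModuleCat.of A' Q),
      Function.Bijective φ := by
  have : Module.Flat A A' := IsLocalization.flat A' S
  obtain ⟨φ, hφ⟩ := flat_baseChange (A' := A') P (ModuleCat.of A Q) n
  let l : A' ⊗[A] Q ≃ₗ[A'] Q := IsLocalization.moduleLid S A' Q
  exact semilinear_conj (Iso.refl _)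
    ((((CategoryTheory.Tor (ModuleCat.{u} A') n).obj (ModuleCat.of A' P))).mapIso l.toModuleIso)
    ⟨φ, hφ⟩

end Groth.L28.TorBC
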