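import Groth.Agent.L28.HomElt
import Mathlib.Algebra.Homology.Monoidal
import Mathlib.Algebra.Category.ModuleCat.Monoidal.Basic
import Mathlib.Algebra.Category.ModuleCat.Colimits
import Mathlib.LinearAlgebra.TensorProduct.RightExactness

/-!
The tensor product of complexes of modules, on elements.
-/

set_option autoImplicit false
universe u w

open CategoryTheory CategoryTheory.Limits MonoidalCategory HomologicalComplex
open scoped TensorProduct

namespace Groth.L28.TensorCx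

variable {A : Type u} [CommRing A] {I : Type w} [AddMonoid I] [DecidableEq I] {c : ComplexShape I}
  [c.TensorSigns] (P Q : HomologicalComplex (ModuleCat.{u} A) c) [HasTensor P Q]

/-- Inclusion of the `(p, q)` summand. -/
noncomputable def ins (p q n : I) (h : p + q = n) :
    P.X p ⊗[A] Q.X q →ₗ[A] (tensorObj P Q).X n :=
  (ιTensorObj P Q p q n h).hom

lemma ins_congr {p p' q q' n : I} (hp : p = p') (hq : q = q') (h : p + q = n) (h' : p' + q' = n)
    (x : P.X p) (y : Q.X q) :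
    ins P Q p q n h (x ⊗ₜ y) = ins P Q p' q' n h' ((hp ▸ x) ⊗ₜ (hq ▸ y)) := by
  subst hp hq; rfl

variable {P Q} in
lemma hom_ext {N : ModuleCat.{u} A} {n : I} {f g : (tensorObj P Q).X n ⟶ N}
    (H : ∀ p q h z, f (ins P Q p q n h z) = g (ins P Q p q n h z)) : f = g := by
  refine mapBifunctor.hom_ext fun p q h => ?_
  ext z
  exact H p q h z

/-- The span of the summands whose indices satisfy `S`. -/
noncomputable def fil (n : I) (S : I → I → Prop) : Submodule A ((tensorObj P Q).X n) :=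
  ⨆ (p : I) (q : I) (h : p + q = n) (_ : S p q), LinearMap.range (ins P Q p q n h)

lemma ins_mem_fil {n p q : I} {S : I → I → Prop} (h : p + q = n) (hS : S p q)
    (z : P.X p ⊗[A] Q.X q) : ins P Q p q n h z ∈ fil P Q n S :=
  Submodule.mem_iSup_of_mem p (Submodule.mem_iSup_of_mem q (Submodule.mem_iSup_of_mem h
    (Submodule.mem_iSup_of_mem hS ⟨z, rfl⟩)))

lemma fil_le {n : I} {S : I → I → Prop} {N : Submodule A ((tensorObj P Q).X n)}
    (H : ∀ p q h, S p q → ∀ z, ins P Q p q n h z ∈ N) : fil P Q n S ≤ N := by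
  refine iSup_le fun p => iSup_le fun q => iSup_le fun h => iSup_le fun hS => ?_
  rintro _ ⟨z, rfl⟩
  exact H p q h hS z

lemma fil_mono {n : I} {S T : I → I → Prop} (H : ∀ p q, p + q = n → S p q → T p q) :
    fil P Q n S ≤ fil P Q n T :=
  fil_le P Q fun p q h hS z => ins_mem_fil P Q h (H p q h hS) z

lemma fil_eq_bot {n : I} {S : I → I → Prop}
    (H : ∀ p q, p + q = n → S p q → Subsingleton (P.X p ⊗[A] Q.X q)) : fil P Q n S = ⊥ := by
  rw [eq_bot_iff]
  refine fil_le P Q fun p q h hS z => ?_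
  have := H p q h hS
  rw [Subsingleton.elim z 0, map_zero]
  exact Submodule.zero_mem _

lemma fil_eq_top {n : I} {S : I → I → Prop}
    (H : ∀ p q, p + q = n → ¬S p q → Subsingleton (P.X p ⊗[A] Q.X q)) : fil P Q n S = ⊤ := by
  rw [eq_top_iff]
  intro x _
  have : (ModuleCat.ofHom (fil P Q n S).mkQ : (tensorObj P Q).X n ⟶ ModuleCat.of A _) = 0 := by
    refine hom_ext fun p q h z => ?_
    show (fil P Q n S).mkQ (ins P Q p q n h z) = 0
    by_cases hS : S p q
    · exact (Submodule.Quotient.mk_eq_zero _).mpr (ins_mem_fil P Q h hS z)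
    · have := H p q h hS
      rw [Subsingleton.elim z 0, map_zero, map_zero]
  exact (Submodule.Quotient.mk_eq_zero _).mp (ConcreteCategory.congr_hom this x)

/-- Projection to the `(a, b)` summand. -/
noncomputable def proj (a b n : I) : (tensorObj P Q).X n →ₗ[A] P.X a ⊗[A] Q.X b :=
  (mapBifunctorDesc (K₁ := P) (K₂ := Q) (F := curriedTensor _) (c := c) (j := n)
    (A := ModuleCat.of A (P.X a ⊗[A] Q.X b)) fun p q _ =>
      if h : p = a ∧ q = b then eqToHom (by obtain ⟨rfl, rfl⟩ := h; rfl) else 0).hom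

lemma proj_ins_self (p q n : I) (h : p + q = n) (z : P.X p ⊗[A] Q.X q) :
    proj P Q p q n (ins P Q p q n h z) = z := by
  unfold proj ins
  rw [← LinearMap.comp_apply, ← ModuleCat.hom_comp]
  erw [ι_mapBifunctorDesc]
  rw [dif_pos ⟨rfl, rfl⟩]
  rfl

lemma proj_ins_ne {p q a b n : I} (h : p + q = n) (hne : ¬(p = a ∧ q = b))
    (z : P.X p ⊗[A] Q.X q) : proj P Q a b n (ins P Q p q n h z) = 0 := by
  unfold proj ins
  rw [← LinearMap.comp_apply, ← ModuleCat.hom_comp]
  erw [ι_mapBifunctorDesc]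
  rw [dif_neg hne]
  rfl

lemma proj_eq_zero_of_mem_fil {a b n : I} {S : I → I → Prop}
    (hS : ¬S a b) {x : (tensorObj P Q).X n} (hx : x ∈ fil P Q n S) : proj P Q a b n x = 0 := by
  refine fil_le P Q (N := LinearMap.ker (proj P Q a b n)) (fun p q h hpq z => ?_) hx
  exact proj_ins_ne P Q h (fun e => hS (by obtain ⟨rfl, rfl⟩ := e; exact hpq)) z

lemma exists_sub_ins_mem {n a b : I} (h : a + b = n) {S T : I → I → Prop}
    (hST : ∀ p q, p + q = n → S p q → T p q ∨ (p = a ∧ q = b))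
    {x : (tensorObj P Q).X n} (hx : x ∈ fil P Q n S) :
    ∃ z, x - ins P Q a b n h z ∈ fil P Q n T := by
  have hle : fil P Q n S ≤ fil P Q n T ⊔ LinearMap.range (ins P Q a b n h) := by
    refine fil_le P Q fun p q h' hpq z => ?_
    rcases hST p q h' hpq with ht | ⟨rfl, rfl⟩
    · exact Submodule.mem_sup_left (ins_mem_fil P Q h' ht z)
    · exact Submodule.mem_sup_right ⟨z, rfl⟩
  obtain ⟨y, hy, _, ⟨z, rfl⟩, rfl⟩ := Submodule.mem_sup.mp (hle hx)
  exact ⟨z, by simpa using hy⟩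

lemma d_ins (p q n n' p' q' : I) (h : p + q = n) (_hn : c.Rel n n') (hp : c.Rel p p')
    (hq : c.Rel q q') (h₁ : p' + q = n') (h₂ : p + q' = n') (z : P.X p ⊗[A] Q.X q) :
    (tensorObj P Q).d n n' (ins P Q p q n h z) =
      ins P Q p' q n' h₁ (LinearMap.rTensor (Q.X q) (P.d p p').hom z) +
        ((c.ε p : ℤˣ) : ℤ) • ins P Q p q' n' h₂ (LinearMap.lTensor (P.X p) (Q.d q q').hom z) := by
  show (ιMapBifunctor P Q (curriedTensor _) c p q n h ≫ (tensorObj P Q).d n n').hom z = _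
  rw [mapBifunctor.d_eq, Preadditive.comp_add, mapBifunctor.ι_D₁, mapBifunctor.ι_D₂,
    mapBifunctor.d₁_eq _ _ _ _ hp _ _ h₁, mapBifunctor.d₂_eq _ _ _ _ _ hq _ h₂]
  simp only [ComplexShape.ε₁, ComplexShape.ε₂, TotalComplexShape.ε₁, TotalComplexShape.ε₂, one_smul,
    Units.smul_def, ModuleCat.hom_add, ModuleCat.hom_zsmul, LinearMap.add_apply,
    LinearMap.smul_apply]
  rfl

lemma d_ins_decomp (p q n n' : I) (h : p + q = n) (z : P.X p ⊗[A] Q.X q) :
    (tensorObj P Q).d n n' (ins P Q p q n h z) =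
      (mapBifunctor.d₁ P Q (curriedTensor _) c p q n').hom z +
        (mapBifunctor.d₂ P Q (curriedTensor _) c p q n').hom z := by
  show (ιMapBifunctor P Q (curriedTensor _) c p q n h ≫ (tensorObj P Q).d n n').hom z = _
  rw [mapBifunctor.d_eq, Preadditive.comp_add, mapBifunctor.ι_D₁, mapBifunctor.ι_D₂]
  rfl

lemma d₁_hom (p q n' p' : I) (hp : c.Rel p p') (h₁ : p' + q = n') (z : P.X p ⊗[A] Q.X q) :
    (mapBifunctor.d₁ P Q (curriedTensor _) c p q n').hom z =
      ins P Q p' q n' h₁ (LinearMap.rTensor (Q.X q) (P.d p p').hom z) := by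
  rw [mapBifunctor.d₁_eq _ _ _ _ hp _ _ h₁]
  simp only [ComplexShape.ε₁, TotalComplexShape.ε₁, one_smul]
  rfl

lemma d₂_hom (p q n' q' : I) (hq : c.Rel q q') (h₂ : p + q' = n') (z : P.X p ⊗[A] Q.X q) :
    (mapBifunctor.d₂ P Q (curriedTensor _) c p q n').hom z =
      ((c.ε p : ℤˣ) : ℤ) • ins P Q p q' n' h₂ (LinearMap.lTensor (P.X p) (Q.d q q').hom z) := by
  rw [mapBifunctor.d₂_eq _ _ _ _ _ hq _ h₂]
  simp only [ComplexShape.ε₂, TotalComplexShape.ε₂, Units.smul_def, ModuleCat.hom_zsmul,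
    LinearMap.smul_apply]
  rfl

lemma d₁_hom_zero (p q n' : I) (hp : ¬c.Rel p (c.next p)) (z : P.X p ⊗[A] Q.X q) :
    (mapBifunctor.d₁ P Q (curriedTensor _) c p q n').hom z = 0 := by
  rw [mapBifunctor.d₁_eq_zero _ _ _ _ _ _ _ hp]; rfl

lemma d₂_hom_zero (p q n' : I) (hq : ¬c.Rel q (c.next q)) (z : P.X p ⊗[A] Q.X q) :
    (mapBifunctor.d₂ P Q (curriedTensor _) c p q n').hom z = 0 := by
  rw [mapBifunctor.d₂_eq_zero _ _ _ _ _ _ _ hq]; rfl

section maps

variable {P Q} {P' Q' : HomologicalComplex (ModuleCat.{u} A) c} [HasTensor P' Q']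

lemma map_ins (f : P ⟶ P') (g : Q ⟶ Q') (p q n : I) (h : p + q = n) (z : P.X p ⊗[A] Q.X q) :
    (tensorHom f g).f n (ins P Q p q n h z) =
      ins P' Q' p q n h (TensorProduct.map (f.f p).hom (g.f q).hom z) := by
  show (ιMapBifunctor P Q (curriedTensor _) c p q n h ≫ (mapBifunctorMap f g _ c).f n).hom z = _
  rw [ι_mapBifunctorMap]
  show ins P' Q' p q n h
    (LinearMap.lTensor (P'.X p) (g.f q).hom (LinearMap.rTensor (Q.X q) (f.f p).hom z)) = _
  rw [← LinearMap.lTensor_comp_rTensor, LinearMap.comp_apply]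

lemma map_mem_fil (f : P ⟶ P') (g : Q ⟶ Q') {n : I} {S : I → I → Prop}
    {x : (tensorObj P Q).X n} (hx : x ∈ fil P Q n S) :
    (tensorHom f g).f n x ∈ fil P' Q' n S :=
  fil_le P Q (N := (fil P' Q' n S).comap ((tensorHom f g).f n).hom) (fun p q h hS z => by
    show (tensorHom f g).f n (ins P Q p q n h z) ∈ fil P' Q' n S
    rw [map_ins]
    exact ins_mem_fil P' Q' h hS _) hx

end maps

end Groth.L28.TensorCx
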