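import Mathlib.RingTheory.MvPowerSeries.Order
import Mathlib.RingTheory.MvPowerSeries.Inverse
import Mathlib.RingTheory.MvPowerSeries.Derivative
import Mathlib.RingTheory.Nakayama
import Mathlib.RingTheory.LocalRing.MaximalIdeal.Basic
import Mathlib.RingTheory.Jacobson.Ideal
import Mathlib.RingTheory.Finiteness.Basic

/-!
Power series in finitely many variables: splitting off variables, powers of the ideal of variables.
-/

set_option autoImplicit false
universe u v
open MvPowerSeries Finset

namespace Groth.L28.PSer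

section
variable {σ : Type v} {R : Type u} [CommRing R]

/-- The ideal of the variables. -/
noncomputable def M (σ : Type v) (R : Type u) [CommRing R] : Ideal (MvPowerSeries σ R) :=
  Ideal.span (Set.range X)

lemma X_mem (i : σ) : (X i : MvPowerSeries σ R) ∈ M σ R := Ideal.subset_span ⟨i, rfl⟩

lemma order_mem_pow (f : MvPowerSeries σ R) :
    ∀ m : ℕ, f ∈ M σ R ^ m → (m : ℕ∞) ≤ f.order := by
  intro m
  induction m generalizing f with
  | zero => simp
  | succ m ih =>
    intro hf
    rw [pow_succ'] at hf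
    refine Submodule.mul_induction_on hf (fun a ha b hb => ?_)
      (fun a b ha hb => (le_min ha hb).trans min_order_le_add)
    refine le_trans ?_ le_order_mul
    rw [Nat.cast_add, add_comm, Nat.cast_one]
    refine add_le_add (one_le_order_iff_constCoeff_eq_zero.mpr ?_) (ih b hb)
    have hle : M σ R ≤ RingHom.ker (constantCoeff : MvPowerSeries σ R →+* R) :=
      Ideal.span_le.mpr (by rintro _ ⟨i, rfl⟩; simp)
    exact hle ha

/-- Dividing by `X i` after setting the earlier variables to zero. -/
noncomputable def D [LinearOrder σ] (i : σ) : MvPowerSeries σ R →+ MvPowerSeries σ R :=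
  open scoped Classical in
  AddMonoidHom.mk'
    (fun (f : MvPowerSeries σ R) (d : σ →₀ ℕ) =>
      if ∀ j < i, d j = 0 then coeff (d + Finsupp.single i 1) f else 0)
    fun f g => by
      funext d
      show @ite _ (∀ j < i, d j = 0) (Classical.propDecidable _) _ _ =
        @ite R (∀ j < i, d j = 0) (Classical.propDecidable _) _ _ +
          @ite R (∀ j < i, d j = 0) (Classical.propDecidable _) _ _
      split_ifs <;> simp

lemma coeff_D [LinearOrder σ] (i : σ) (f : MvPowerSeries σ R) (d : σ →₀ ℕ)
    [Decidable (∀ j < i, d j = 0)] :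
    coeff d (D i f) = if ∀ j < i, d j = 0 then coeff (d + Finsupp.single i 1) f else 0 := by
  show (@ite _ _ (Classical.propDecidable _) _ _) = _
  congr 1

lemma order_D [LinearOrder σ] {m : ℕ} {f : MvPowerSeries σ R} (hf : ((m + 1 : ℕ) : ℕ∞) ≤ f.order)
    (i : σ) : (m : ℕ∞) ≤ (D i f).order := by
  classical
  refine nat_le_order fun d hd => ?_
  rw [coeff_D]
  split_ifs
  · refine coeff_of_lt_order (lt_of_lt_of_le ?_ hf)
    rw [map_add, Finsupp.degree_single]
    exact_mod_cast Nat.add_lt_add_right hd 1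
  · rfl

lemma sum_X_mul_D [LinearOrder σ] [Fintype σ] {f : MvPowerSeries σ R}
    (hf : (1 : ℕ∞) ≤ f.order) : ∑ i, X i * D i f = f := by
  classical
  ext d
  have hsum : ∀ i, coeff d (X i * D i f) = if 1 ≤ d i ∧ ∀ j < i, d j = 0 then coeff d f else 0 := by
    intro i
    rw [MvPowerSeries.X, coeff_monomial_mul, one_mul]
    by_cases h : 1 ≤ d i
    · rw [if_pos (Finsupp.single_le_iff.mpr h), coeff_D,
        tsub_add_cancel_of_le (Finsupp.single_le_iff.mpr h)]
      refine if_congr ?_ rfl rfl
      simp only [h, true_and]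
      refine forall₂_congr fun j hj => ?_
      simp [Finsupp.single_eq_of_ne hj.ne]
    · rw [if_neg (by simpa [Finsupp.single_le_iff] using h), if_neg (by tauto)]
  rw [map_sum, Finset.sum_congr rfl fun i _ => hsum i]
  rcases eq_or_ne d 0 with rfl | hd
  · rw [coeff_of_lt_order (lt_of_lt_of_le (by simp) hf), Finset.sum_eq_zero]
    simp
  · have hne : d.support.Nonempty := Finsupp.support_nonempty_iff.mpr hd
    set i₀ := d.support.min' hne
    have h1 : 1 ≤ d i₀ :=
      Nat.one_le_iff_ne_zero.mpr (Finsupp.mem_support_iff.mp (d.support.min'_mem hne))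
    have h2 : ∀ j < i₀, d j = 0 := fun j hj => by
      by_contra h
      exact absurd (d.support.min'_le j (Finsupp.mem_support_iff.mpr h)) (not_le.mpr hj)
    rw [Finset.sum_eq_single i₀ (fun i _ hi => if_neg ?_) (by simp), if_pos ⟨h1, h2⟩]
    rintro ⟨h, h'⟩
    rcases lt_or_gt_of_ne hi with hlt | hgt
    · have := h2 i hlt; omega
    · have := h' i₀ hgt; omega

lemma mem_pow_of_order [Finite σ] :
    ∀ (m : ℕ) (f : MvPowerSeries σ R), (m : ℕ∞) ≤ f.order → f ∈ M σ R ^ m := by
  obtain ⟨n, ⟨e⟩⟩ := Finite.exists_equiv_fin σ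
  let _ : LinearOrder σ := LinearOrder.lift' e e.injective
  let _ : Fintype σ := Fintype.ofFinite σ
  intro m
  induction m with
  | zero => simp
  | succ m ih =>
    intro f hf
    rw [← sum_X_mul_D (f := f) (le_trans (by simp) hf)]
    refine Submodule.sum_mem _ fun i _ => ?_
    rw [pow_succ']
    exact Ideal.mul_mem_mul (X_mem i) (ih _ (order_D hf i))

lemma M_fg [Finite σ] : (M σ R).FG := by
  classical
  exact Submodule.fg_span (Set.finite_range _)

lemma degree_le_one {d : σ →₀ ℕ} (h : d.degree ≤ 1) : d = 0 ∨ ∃ i, d = Finsupp.single i 1 := by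
  classical
  rcases eq_or_ne d 0 with h0 | h0
  · exact .inl h0
  obtain ⟨i, hi⟩ := Finsupp.support_nonempty_iff.mpr h0
  have hle : Finsupp.single i 1 ≤ d :=
    Finsupp.single_le_iff.mpr (Nat.one_le_iff_ne_zero.mpr (Finsupp.mem_support_iff.mp hi))
  obtain ⟨c, rfl⟩ := exists_add_of_le hle
  refine .inr ⟨i, ?_⟩
  rw [map_add, Finsupp.degree_single] at h
  have : c = 0 := Finsupp.degree_eq_zero_iff c |>.mp (by omega)
  rw [this, add_zero]

lemma sub_linear_mem_sq [Fintype σ] (g : MvPowerSeries σ R) (h0 : constantCoeff g = 0) :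
    g - ∑ j, C (coeff (Finsupp.single j 1) g) * X j ∈ M σ R ^ 2 := by
  classical
  refine mem_pow_of_order 2 _ (nat_le_order fun d hd => ?_)
  rw [map_sub, map_sum, sub_eq_zero]
  rcases degree_le_one (by omega : d.degree ≤ 1) with rfl | ⟨i, rfl⟩
  · rw [Finset.sum_eq_zero]
    · simpa [coeff_zero_eq_constantCoeff] using h0
    · intro j _; simp [coeff_zero_eq_constantCoeff]
  · simp [coeff_X, Finsupp.single_eq_single_iff]

lemma coeff_single_pderiv (i j : σ) [DecidableEq σ] (f : MvPowerSeries σ R) :
    coeff (Finsupp.single j 1) (pderiv R i f) =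
      (if i = j then 2 * coeff (Finsupp.single i 2) f
        else coeff (Finsupp.single j 1 + Finsupp.single i 1) f) := by
  rw [coeff_pderiv]
  split_ifs with h
  · subst h
    rw [← Finsupp.single_add, Finsupp.single_eq_same, mul_comm]
    norm_num
  · rw [Finsupp.single_eq_of_ne h]
    simp

lemma constantCoeff_pderiv (i : σ) (f : MvPowerSeries σ R) :
    constantCoeff (pderiv R i f) = coeff (Finsupp.single i 1) f := by
  rw [← coeff_zero_eq_constantCoeff_apply, coeff_pderiv]
  simp

end

section field
variable {σ : Type v} {k : Type u} [Field k]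

lemma maximalIdeal_eq [Finite σ] : IsLocalRing.maximalIdeal (MvPowerSeries σ k) = M σ k := by
  refine le_antisymm (fun f hf => ?_) (Ideal.span_le.mpr ?_)
  · rw [IsLocalRing.mem_maximalIdeal, mem_nonunits_iff, isUnit_iff_constantCoeff,
      isUnit_iff_ne_zero, not_not] at hf
    simpa using mem_pow_of_order 1 f (by exact_mod_cast one_le_order_iff_constCoeff_eq_zero.mpr hf)
  · rintro _ ⟨i, rfl⟩
    rw [SetLike.mem_coe, IsLocalRing.mem_maximalIdeal, mem_nonunits_iff, isUnit_iff_constantCoeff,
      isUnit_iff_ne_zero, not_not]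
    simp

/-- Nakayama in the power series ring. -/
lemma le_of_le_sup [Finite σ] {I J : Ideal (MvPowerSeries σ k)} (hI : I.FG)
    (h : I ≤ J ⊔ M σ k * I) : I ≤ J := by
  refine Submodule.le_of_le_smul_of_le_jacobson_bot (I := M σ k) hI ?_ h
  rw [← maximalIdeal_eq, IsLocalRing.jacobson_eq_maximalIdeal ⊥ bot_ne_top]

end field

end Groth.L28.PSer
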