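import Groth.Agent.L28.TensorCx
import Mathlib.RingTheory.Flat.Basic
import Mathlib.RingTheory.Flat.Stability
import Mathlib.CategoryTheory.Monoidal.Tor
import Mathlib.Algebra.Category.ModuleCat.Projective
import Mathlib.CategoryTheory.Abelian.LeftDerived

/-!
Balance of Tor: both resolutions compute the homology of the total complex.
-/

set_option autoImplicit false
universe u

open CategoryTheory CategoryTheory.Limits MonoidalCategory HomologicalComplex
open scoped TensorProduct
open Groth.L28.TensorCx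

namespace Groth.L28.Balance

variable {A : Type u} [CommRing A]

/-- An augmentation `ε : C_0 → N` making `C` a flat resolution of `N`. -/
structure IsRes (C : ChainComplex (ModuleCat.{u} A) ℕ) {N : ModuleCat.{u} A} (ε : C.X 0 ⟶ N) :
    Prop where
  surj : Function.Surjective ε
  exact₀ : Function.Exact (C.d 1 0).hom ε.hom
  exact : ∀ n, Function.Exact (C.d (n + 2) (n + 1)).hom (C.d (n + 1) n).hom
  flat : ∀ n, Module.Flat A (C.X n)

variable (P Q : ChainComplex (ModuleCat.{u} A) ℕ) {M N : ModuleCat.{u} A}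

lemma d_ins_succ (p q n : ℕ) (h : p + (q + 1) = n + 1) (z : P.X p ⊗[A] Q.X (q + 1)) :
    ∃ y ∈ fil P Q n (fun a _ => a + 1 = p),
      (HomologicalComplex.tensorObj P Q).d (n + 1) n (ins P Q p (q + 1) (n + 1) h z) =
        y + (((ComplexShape.down ℕ).ε p : ℤˣ) : ℤ) •
          ins P Q p q n (by omega) (LinearMap.lTensor (P.X p) (Q.d (q + 1) q).hom z) := by
  rw [d_ins_decomp, d₂_hom P Q p (q + 1) n q (by simp) (by omega)]
  match p with
  | 0 => exact ⟨0, Submodule.zero_mem _, by rw [d₁_hom_zero P Q 0 (q + 1) n (by simp)]⟩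
  | p + 1 =>
    refine ⟨_, ins_mem_fil P Q (S := fun a _ => a + 1 = p + 1) (p := p) (q := q + 1) (by omega)
      rfl _, by rw [d₁_hom P Q (p + 1) (q + 1) n p (by simp) (by omega)]⟩

lemma d_ins_succ' (p q n : ℕ) (h : (p + 1) + q = n + 1) (z : P.X (p + 1) ⊗[A] Q.X q) :
    ∃ y ∈ fil P Q n (fun _ b => b + 1 = q),
      (HomologicalComplex.tensorObj P Q).d (n + 1) n (ins P Q (p + 1) q (n + 1) h z) =
        ins P Q p q n (by omega) (LinearMap.rTensor (Q.X q) (P.d (p + 1) p).hom z) + y := by
  rw [d_ins_decomp, d₁_hom P Q (p + 1) q n p (by simp) (by omega)]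
  match q with
  | 0 => exact ⟨0, Submodule.zero_mem _, by rw [d₂_hom_zero P Q (p + 1) 0 n (by simp)]⟩
  | q + 1 =>
    refine ⟨_, zsmul_mem (ins_mem_fil P Q (S := fun _ b => b + 1 = q + 1) (p := p + 1) (q := q)
      (by omega) rfl _) _, by rw [d₂_hom P Q (p + 1) (q + 1) n q (by simp) (by omega)]⟩

lemma d_fil {S T : ℕ → ℕ → Prop} (n : ℕ) (h₁ : ∀ p q, S (p + 1) q → T p q)
    (h₂ : ∀ p q, S p (q + 1) → T p q) {x : (HomologicalComplex.tensorObj P Q).X (n + 1)}
    (hx : x ∈ fil P Q (n + 1) S) : (HomologicalComplex.tensorObj P Q).d (n + 1) n x ∈ fil P Q n T := by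
  refine fil_le P Q (N := (fil P Q n T).comap ((HomologicalComplex.tensorObj P Q).d (n + 1) n).hom)
    (fun p q h hpq z => ?_) hx
  show (HomologicalComplex.tensorObj P Q).d (n + 1) n (ins P Q p q (n + 1) h z) ∈ fil P Q n T
  match q with
  | 0 =>
    obtain ⟨p, rfl⟩ : ∃ p', p = p' + 1 := ⟨p - 1, by omega⟩
    obtain ⟨y, hy, he⟩ := d_ins_succ' P Q p 0 n h z
    rw [he]
    exact add_mem (ins_mem_fil P Q _ (h₁ _ _ hpq) _)
      (fil_mono P Q (fun a b _ hb => absurd hb (Nat.succ_ne_zero _)) hy)
  | q + 1 =>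
    obtain ⟨y, hy, he⟩ := d_ins_succ P Q p q n h z
    rw [he]
    refine add_mem (fil_mono P Q (fun a b hab ha => ?_) hy)
      (zsmul_mem (ins_mem_fil P Q _ (h₂ _ _ hpq) _) _)
    subst ha
    obtain rfl : b = q + 1 := by omega
    exact h₁ a (q + 1) hpq

section first

variable {Q} {ε : Q.X 0 ⟶ N}

/-- `T(P, Q) → P ⊗ N`. -/
noncomputable def e₁ (ε : Q.X 0 ⟶ N) (n : ℕ) :
    (HomologicalComplex.tensorObj P Q).X n →ₗ[A] P.X n ⊗[A] N :=
  (LinearMap.lTensor (P.X n) ε.hom).comp (proj P Q n 0 n)

lemma e₁_ins_zero (p : ℕ) (z : P.X p ⊗[A] Q.X 0) :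
    e₁ P ε p (ins P Q p 0 p rfl z) = LinearMap.lTensor (P.X p) ε.hom z := by
  rw [e₁, LinearMap.comp_apply, proj_ins_self]

lemma e₁_eq_zero {n : ℕ} {S : ℕ → ℕ → Prop} (hS : ¬S n 0) {x : (HomologicalComplex.tensorObj P Q).X n}
    (hx : x ∈ fil P Q n S) : e₁ P ε n x = 0 := by
  rw [e₁, LinearMap.comp_apply, proj_eq_zero_of_mem_fil P Q hS hx, map_zero]

lemma e₁_d (h : IsRes Q ε) (n : ℕ) (x : (HomologicalComplex.tensorObj P Q).X (n + 1)) :
    e₁ P ε n ((HomologicalComplex.tensorObj P Q).d (n + 1) n x) =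
      LinearMap.rTensor N (P.d (n + 1) n).hom (e₁ P ε (n + 1) x) := by
  suffices H : (HomologicalComplex.tensorObj P Q).d (n + 1) n ≫ ModuleCat.ofHom (e₁ P ε n) =
      ModuleCat.ofHom ((LinearMap.rTensor N (P.d (n + 1) n).hom).comp (e₁ P ε (n + 1))) from
    ConcreteCategory.congr_hom H x
  refine hom_ext fun p q hpq z => ?_
  show e₁ P ε n ((HomologicalComplex.tensorObj P Q).d (n + 1) n (ins P Q p q (n + 1) hpq z)) =
    LinearMap.rTensor N (P.d (n + 1) n).hom (e₁ P ε (n + 1) (ins P Q p q (n + 1) hpq z))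
  match q with
  | 0 =>
    obtain rfl : p = n + 1 := by omega
    obtain ⟨y, hy, he⟩ := d_ins_succ' P Q n 0 n hpq z
    rw [he, map_add, e₁_eq_zero P (S := fun _ b => b + 1 = 0) (by simp) hy, add_zero, e₁_ins_zero,
      e₁_ins_zero, ← LinearMap.comp_apply, LinearMap.lTensor_comp_rTensor,
      ← LinearMap.comp_apply, LinearMap.rTensor_comp_lTensor]
  | q + 1 =>
    have h0 : e₁ P ε (n + 1) (ins P Q p (q + 1) (n + 1) hpq z) = 0 :=
      e₁_eq_zero P (S := fun a b => a = p ∧ b = q + 1) (by omega)
        (ins_mem_fil P Q (S := fun a b => a = p ∧ b = q + 1) hpq ⟨rfl, rfl⟩ z)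
    obtain ⟨y, hy, he⟩ := d_ins_succ P Q p q n hpq z
    rw [h0, map_zero, he, map_add, e₁_eq_zero P (S := fun a _ => a + 1 = p) (by omega) hy,
      zero_add, map_zsmul]
    rcases Nat.eq_zero_or_pos q with rfl | hq
    · obtain rfl : p = n := by omega
      rw [e₁_ins_zero, ← LinearMap.comp_apply (LinearMap.lTensor _ ε.hom), ← LinearMap.lTensor_comp,
        h.exact₀.linearMap_comp_eq_zero, LinearMap.lTensor_zero, LinearMap.zero_apply, smul_zero]
    · rw [e₁_eq_zero P (S := fun a b => a = p ∧ b = q) (by omega)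
        (ins_mem_fil P Q (S := fun a b => a = p ∧ b = q) (by omega) ⟨rfl, rfl⟩ _), smul_zero]

lemma e₁_surjective (h : IsRes Q ε) (n : ℕ) : Function.Surjective (e₁ P ε n) := fun y => by
  obtain ⟨z, rfl⟩ := LinearMap.lTensor_surjective (P.X n) h.surj y
  exact ⟨ins P Q n 0 n rfl z, e₁_ins_zero P n z⟩

lemma kernel_exact₁ (h : IsRes Q ε) (hP : ∀ p, Module.Flat A (P.X p)) (m : ℕ) :
    ∀ (r : ℕ) (x : (HomologicalComplex.tensorObj P Q).X m), x ∈ fil P Q m (fun a _ => a < r) →
      (HomologicalComplex.tensorObj P Q).d m ((ComplexShape.down ℕ).next m) x = 0 → e₁ P ε m x = 0 →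
      ∃ w : (HomologicalComplex.tensorObj P Q).X (m + 1), (HomologicalComplex.tensorObj P Q).d (m + 1) m w = x ∧ e₁ P ε (m + 1) w = 0 := by
  intro r
  induction r with
  | zero =>
    intro x hx _ _
    rw [fil_eq_bot P Q (fun a b _ ha => absurd ha (Nat.not_lt_zero a)), Submodule.mem_bot] at hx
    exact ⟨0, by simp [hx], map_zero _⟩
  | succ r ih =>
    intro x hxF hx he
    rcases Nat.lt_or_ge m r with hmr | hrm
    · exact ih x (fil_mono P Q (fun a b hab _ => by omega) hxF) hx he
    obtain ⟨q, rfl⟩ := Nat.exists_eq_add_of_le hrm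
    obtain ⟨a, ha⟩ := exists_sub_ins_mem P Q (a := r) (b := q) rfl (T := fun a _ => a < r)
      (fun p s hps hp => by omega) hxF
    set σ : ℤ := (((ComplexShape.down ℕ).ε r : ℤˣ) : ℤ) with hσ
    have hσσ : σ * σ = 1 := by rw [hσ, ← Units.val_mul, Int.units_mul_self, Units.val_one]
    clear_value σ
    obtain ⟨b, hb⟩ : ∃ b, LinearMap.lTensor (P.X r) (Q.d (q + 1) q).hom b = a := by
      match q, x, hxF, hx, he, a, ha with
      | 0, x, hxF, hx, he, a, ha =>
        have h0 : LinearMap.lTensor (P.X r) ε.hom a = 0 := by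
          rw [← sub_add_cancel x (ins P Q r 0 (r + 0) rfl a), map_add,
            e₁_eq_zero P (n := r + 0) (S := fun c _ => c < r) (by omega) ha, zero_add] at he
          exact (e₁_ins_zero P r a).symm.trans he
        exact (lTensor_exact (P.X r) h.exact₀ h.surj a).mp h0
      | q + 1, x, hxF, hx, he, a, ha =>
        have h0 : LinearMap.lTensor (P.X r) (Q.d (q + 1) q).hom a = 0 := by
          have hk : (ComplexShape.down ℕ).next (r + (q + 1)) = r + q :=
            (ComplexShape.down ℕ).next_eq' (by simp; omega)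
          rw [hk] at hx
          obtain ⟨y, hy, hye⟩ := d_ins_succ P Q r q (r + q) (by omega) a
          have h1 := congrArg (proj P Q r q (r + q)) hx
          rw [map_zero, ← sub_add_cancel x (ins P Q r (q + 1) (r + (q + 1)) rfl a), map_add,
            map_add] at h1
          have hd := d_fil P Q (r + q) (S := fun c _ => c < r) (T := fun c _ => c < r)
            (fun p s hp => by omega) (fun p s hp => hp) ha
          erw [hye] at h1
          rw [map_add, map_zsmul, proj_ins_self, proj_eq_zero_of_mem_fil P Q (by omega) hy,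
            zero_add] at h1
          erw [proj_eq_zero_of_mem_fil P Q (S := fun c _ => c < r) (lt_irrefl r) hd] at h1
          rw [zero_add, ← hσ] at h1
          have := congrArg (σ • ·) h1
          simpa [smul_smul, hσσ] using this
        have := hP r
        exact (Module.Flat.lTensor_exact (P.X r) (h.exact q) a).mp h0
    obtain ⟨y, hy, hye⟩ := d_ins_succ P Q r q (r + q) rfl b
    rw [← hσ, hb] at hye
    have hins : e₁ P ε (r + q + 1) (ins P Q r (q + 1) (r + q + 1) rfl b) = 0 :=
      e₁_eq_zero P (n := r + q + 1) (S := fun a c => a = r ∧ c = q + 1) (by omega)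
        (ins_mem_fil P Q (n := r + q + 1) (p := r) (q := q + 1) (S := fun a c => a = r ∧ c = q + 1) rfl ⟨rfl, rfl⟩ b)
    obtain ⟨w, hw, hwe⟩ := ih
      (x - (HomologicalComplex.tensorObj P Q).d (r + q + 1) (r + q) (σ • ins P Q r (q + 1) (r + q + 1) rfl b))
      (by
        rw [map_zsmul, hye, smul_add, smul_smul, hσσ, one_smul, sub_add_eq_sub_sub_swap]
        exact sub_mem ha (zsmul_mem (fil_mono P Q (fun c d _ hc => by omega) hy) _))
      (by rw [map_sub, hx, ← ConcreteCategory.comp_apply, HomologicalComplex.d_comp_d]; simp)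
      (by
        rw [map_sub, he, e₁_d P h, map_zsmul, hins]
        simp)
    refine ⟨w + σ • ins P Q r (q + 1) (r + q + 1) rfl b, ?_, ?_⟩
    · rw [map_add, hw, sub_add_cancel]
    · rw [map_add, hwe, map_zsmul, zero_add, hins, smul_zero]

end first

section second

variable {P} {ε : P.X 0 ⟶ M}

/-- `T(P, Q) → M ⊗ Q`. -/
noncomputable def e₂ (ε : P.X 0 ⟶ M) (n : ℕ) :
    (HomologicalComplex.tensorObj P Q).X n →ₗ[A] M ⊗[A] Q.X n :=
  (LinearMap.rTensor (Q.X n) ε.hom).comp (proj P Q 0 n n)

lemma e₂_ins_self (q : ℕ) (h : 0 + q = q) (z : P.X 0 ⊗[A] Q.X q) :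
    e₂ Q ε q (ins P Q 0 q q h z) = LinearMap.rTensor (Q.X q) ε.hom z := by
  rw [e₂, LinearMap.comp_apply, proj_ins_self]

lemma e₂_eq_zero {n : ℕ} {S : ℕ → ℕ → Prop} (hS : ¬S 0 n)
    {x : (HomologicalComplex.tensorObj P Q).X n} (hx : x ∈ fil P Q n S) : e₂ Q ε n x = 0 := by
  rw [e₂, LinearMap.comp_apply, proj_eq_zero_of_mem_fil P Q hS hx, map_zero]

lemma e₂_d (h : IsRes P ε) (n : ℕ) (x : (HomologicalComplex.tensorObj P Q).X (n + 1)) :
    e₂ Q ε n ((HomologicalComplex.tensorObj P Q).d (n + 1) n x) =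
      LinearMap.lTensor M (Q.d (n + 1) n).hom (e₂ Q ε (n + 1) x) := by
  suffices H : (HomologicalComplex.tensorObj P Q).d (n + 1) n ≫ ModuleCat.ofHom (e₂ Q ε n) =
      ModuleCat.ofHom ((LinearMap.lTensor M (Q.d (n + 1) n).hom).comp (e₂ Q ε (n + 1))) from
    ConcreteCategory.congr_hom H x
  refine hom_ext fun p q hpq z => ?_
  show e₂ Q ε n ((HomologicalComplex.tensorObj P Q).d (n + 1) n (ins P Q p q (n + 1) hpq z)) =
    LinearMap.lTensor M (Q.d (n + 1) n).hom (e₂ Q ε (n + 1) (ins P Q p q (n + 1) hpq z))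
  match p with
  | 0 =>
    obtain rfl : q = n + 1 := by omega
    obtain ⟨y, hy, he⟩ := d_ins_succ P Q 0 n n hpq z
    rw [he, map_add, e₂_eq_zero Q (S := fun a _ => a + 1 = 0) (by simp) hy, zero_add, map_zsmul,
      ComplexShape.ε_zero, Units.val_one, one_smul, e₂_ins_self, e₂_ins_self,
      ← LinearMap.comp_apply, LinearMap.rTensor_comp_lTensor,
      ← LinearMap.comp_apply, LinearMap.lTensor_comp_rTensor]
  | p + 1 =>
    have h0 : e₂ Q ε (n + 1) (ins P Q (p + 1) q (n + 1) hpq z) = 0 :=
      e₂_eq_zero Q (n := n + 1) (S := fun a b => a = p + 1 ∧ b = q) (by omega)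
        (ins_mem_fil P Q (n := n + 1) (S := fun a b => a = p + 1 ∧ b = q) hpq ⟨rfl, rfl⟩ z)
    obtain ⟨y, hy, he⟩ := d_ins_succ' P Q p q n hpq z
    rw [h0, map_zero, he, map_add, e₂_eq_zero Q (S := fun _ b => b + 1 = q) (by omega) hy, add_zero]
    rcases Nat.eq_zero_or_pos p with rfl | hp
    · obtain rfl : q = n := by omega
      rw [e₂_ins_self, ← LinearMap.comp_apply (LinearMap.rTensor _ ε.hom), ← LinearMap.rTensor_comp,
        h.exact₀.linearMap_comp_eq_zero, LinearMap.rTensor_zero, LinearMap.zero_apply]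
    · exact e₂_eq_zero Q (S := fun a b => a = p ∧ b = q) (by omega)
        (ins_mem_fil P Q (S := fun a b => a = p ∧ b = q) (by omega) ⟨rfl, rfl⟩ _)

lemma e₂_surjective (h : IsRes P ε) (n : ℕ) : Function.Surjective (e₂ Q ε n) := fun y => by
  obtain ⟨z, rfl⟩ := LinearMap.rTensor_surjective (Q.X n) h.surj y
  exact ⟨ins P Q 0 n n (zero_add n) z, e₂_ins_self Q n _ z⟩

lemma kernel_exact₂ (h : IsRes P ε) (hQ : ∀ p, Module.Flat A (Q.X p)) (m : ℕ) :
    ∀ (r : ℕ) (x : (HomologicalComplex.tensorObj P Q).X m),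
      x ∈ fil P Q m (fun _ b => b < r) →
      (HomologicalComplex.tensorObj P Q).d m ((ComplexShape.down ℕ).next m) x = 0 →
      e₂ Q ε m x = 0 →
      ∃ w : (HomologicalComplex.tensorObj P Q).X (m + 1),
        (HomologicalComplex.tensorObj P Q).d (m + 1) m w = x ∧ e₂ Q ε (m + 1) w = 0 := by
  intro r
  induction r with
  | zero =>
    intro x hx _ _
    rw [fil_eq_bot P Q (fun a b _ hb => absurd hb (Nat.not_lt_zero b)), Submodule.mem_bot] at hx
    exact ⟨0, by simp [hx], map_zero _⟩
  | succ r ih =>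
    intro x hxF hx he
    rcases Nat.lt_or_ge m r with hmr | hrm
    · exact ih x (fil_mono P Q (fun a b hab _ => by omega) hxF) hx he
    obtain ⟨p, rfl⟩ : ∃ p, m = p + r := ⟨m - r, by omega⟩
    obtain ⟨a, ha⟩ := exists_sub_ins_mem P Q (a := p) (b := r) rfl (T := fun _ b => b < r)
      (fun c s hcs hc => by omega) hxF
    obtain ⟨b, hb⟩ : ∃ b, LinearMap.rTensor (Q.X r) (P.d (p + 1) p).hom b = a := by
      match p, x, hxF, hx, he, a, ha with
      | 0, x, hxF, hx, he, a, ha =>
        have hz : LinearMap.rTensor (Q.X r) ε.hom a = 0 := by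
          have h1 := e₂_eq_zero (ε := ε) Q (n := 0 + r) (S := fun _ c => c < r) (by omega) ha
          rw [map_sub, he, zero_sub, neg_eq_zero] at h1
          have key : ∀ (n : ℕ) (hn : 0 + r = n), e₂ Q ε n (ins P Q 0 r n hn a) = 0 →
              LinearMap.rTensor (Q.X r) ε.hom a = 0 := by
            intro n hn hh
            obtain rfl : r = n := by omega
            rwa [e₂_ins_self] at hh
          exact key _ _ h1
        exact (rTensor_exact (Q.X r) h.exact₀ h.surj a).mp hz
      | p + 1, x, hxF, hx, he, a, ha =>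
        have h0 : LinearMap.rTensor (Q.X r) (P.d (p + 1) p).hom a = 0 := by
          have hk : (ComplexShape.down ℕ).next (p + 1 + r) = p + r :=
            (ComplexShape.down ℕ).next_eq' (by simp; omega)
          rw [hk] at hx
          have key : ∀ (n : ℕ) (hn : n = p + r) (hn' : p + 1 + r = n + 1)
              (x' : (HomologicalComplex.tensorObj P Q).X (n + 1)),
              x' - ins P Q (p + 1) r (n + 1) hn' a ∈ fil P Q (n + 1) (fun _ c => c < r) →
              (HomologicalComplex.tensorObj P Q).d (n + 1) n x' = 0 →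
              LinearMap.rTensor (Q.X r) (P.d (p + 1) p).hom a = 0 := by
            intro n hn hn' x' ha' hx'
            subst hn
            obtain ⟨y, hy, hye⟩ := d_ins_succ' P Q p r (p + r) hn' a
            have hd := d_fil P Q (p + r) (S := fun _ c => c < r) (T := fun _ c => c < r)
              (fun c s hs => hs) (fun c s hs => by omega) ha'
            have h1 := congrArg (proj P Q p r (p + r)) hx'
            rw [map_zero, ← sub_add_cancel x' (ins P Q (p + 1) r (p + r + 1) hn' a), map_add,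
              map_add, proj_eq_zero_of_mem_fil P Q (S := fun _ c => c < r) (by omega) hd, hye,
              map_add, proj_ins_self, proj_eq_zero_of_mem_fil P Q (by omega) hy, add_zero,
              zero_add] at h1
            exact h1
          have hcast : ∀ (m : ℕ) (hm : p + 1 + r = m) (hm' : m = p + r + 1)
              (x' : (HomologicalComplex.tensorObj P Q).X m),
              x' - ins P Q (p + 1) r m hm a ∈ fil P Q m (fun _ c => c < r) →
              (HomologicalComplex.tensorObj P Q).d m (p + r) x' = 0 →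
              LinearMap.rTensor (Q.X r) (P.d (p + 1) p).hom a = 0 := by
            intro m hm hm' x' ha' hx'
            subst hm'
            exact key (p + r) rfl hm x' ha' hx'
          exact hcast _ rfl (by omega) x ha hx
        have := hQ r
        exact (Module.Flat.rTensor_exact (Q.X r) (h.exact p) a).mp h0
    obtain ⟨y, hy, hye⟩ := d_ins_succ' P Q p r (p + r) (by omega) b
    rw [hb] at hye
    have hins : e₂ Q ε (p + r + 1) (ins P Q (p + 1) r (p + r + 1) (by omega) b) = 0 :=
      e₂_eq_zero Q (n := p + r + 1) (S := fun a c => a = p + 1 ∧ c = r) (by omega)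
        (ins_mem_fil P Q (n := p + r + 1) (S := fun a c => a = p + 1 ∧ c = r) (by omega)
          ⟨rfl, rfl⟩ b)
    obtain ⟨w, hw, hwe⟩ := ih
      (x - (HomologicalComplex.tensorObj P Q).d (p + r + 1) (p + r)
        (ins P Q (p + 1) r (p + r + 1) (by omega) b))
      (by
        rw [hye, sub_add_eq_sub_sub]
        exact sub_mem ha (fil_mono P Q (fun c d _ hc => by omega) hy))
      (by rw [map_sub, hx, ← ConcreteCategory.comp_apply, HomologicalComplex.d_comp_d]; simp)
      (by rw [map_sub, he, e₂_d Q h, hins]; simp)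
    refine ⟨w + ins P Q (p + 1) r (p + r + 1) (by omega) b, ?_, ?_⟩
    · rw [map_add, hw, sub_add_cancel]
    · rw [map_add, hwe, zero_add, hins]

end second

section compare

open HomElt

/-- Homology of the total complex computes `H(P ⊗ N)`. -/
theorem exists_iso₁ (P Q : ChainComplex (ModuleCat.{u} A) ℕ) (ε : Q.X 0 ⟶ N) (h : IsRes Q ε)
    (hP : ∀ p, Module.Flat A (P.X p)) :
    ∃ φ : HomologicalComplex.tensorObj P Q ⟶
        ((tensorRight N).mapHomologicalComplex (ComplexShape.down ℕ)).obj P,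
      (∀ n x, φ.f n x = e₁ P ε n x) ∧ QuasiIso φ := by
  let φ : HomologicalComplex.tensorObj P Q ⟶
      ((tensorRight N).mapHomologicalComplex (ComplexShape.down ℕ)).obj P :=
    { f := fun n => ModuleCat.ofHom (e₁ P ε n)
      comm' := fun i j hij => by
        obtain rfl : j + 1 = i := hij
        ext x
        exact (e₁_d P h j x).symm }
  refine ⟨φ, fun n x => rfl, quasiIso_of_bijective φ fun j => ⟨?_, ?_⟩⟩
  all_goals
    have hker : ∀ x : (HomologicalComplex.tensorObj P Q).X j,
        (HomologicalComplex.tensorObj P Q).d j ((ComplexShape.down ℕ).next j) x = 0 →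
        φ.f j x = 0 → ∃ w, (HomologicalComplex.tensorObj P Q).d (j + 1) j w = x :=
      fun x hx hx' => by
        obtain ⟨w, hw, -⟩ := kernel_exact₁ P h hP j (j + 1) x (by
          rw [fil_eq_top P Q fun a b hab ha => absurd (show a < j + 1 by omega) ha]
          exact Submodule.mem_top) hx hx'
        exact ⟨w, hw⟩
  · refine (injective_homologyMap_iff φ (i := j + 1) (k := (ComplexShape.down ℕ).next j)
      ((ComplexShape.down ℕ).prev_eq' rfl) rfl).mpr fun x w hx hw => ?_
    obtain ⟨w', hw'⟩ := e₁_surjective P h (j + 1) w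
    obtain ⟨u, hu⟩ := hker (x - (HomologicalComplex.tensorObj P Q).d (j + 1) j w')
      (by rw [map_sub, hx, ← ConcreteCategory.comp_apply, HomologicalComplex.d_comp_d]; simp)
      (by
        rw [map_sub, hw, ← ConcreteCategory.comp_apply ((HomologicalComplex.tensorObj P Q).d _ _),
          ← HomologicalComplex.Hom.comm, ConcreteCategory.comp_apply]
        rw [show φ.f (j + 1) w' = w from hw', sub_self])
    exact ⟨u + w', by rw [map_add, hu, sub_add_cancel]⟩
  · refine (surjective_homologyMap_iff φ (i := j + 1) (k := (ComplexShape.down ℕ).next j)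
      ((ComplexShape.down ℕ).prev_eq' rfl) rfl).mpr fun y hy => ?_
    obtain ⟨x₀, hx₀⟩ := e₁_surjective P h j y
    rcases j with _ | j
    · refine ⟨x₀, 0, ?_, by simp [show φ.f 0 x₀ = y from hx₀]⟩
      rw [(HomologicalComplex.tensorObj P Q).shape _ _ (by simp)]
      simp
    · have hn : (ComplexShape.down ℕ).next (j + 1) = j := (ComplexShape.down ℕ).next_eq' rfl
      rw [hn] at hy ⊢
      have he : φ.f j ((HomologicalComplex.tensorObj P Q).d (j + 1) j x₀) = 0 := by
        rw [← ConcreteCategory.comp_apply, ← HomologicalComplex.Hom.comm,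
          ConcreteCategory.comp_apply, show φ.f (j + 1) x₀ = y from hx₀, hy]
      obtain ⟨w, hw, hwe⟩ := kernel_exact₁ P h hP j (j + 1) _ (by
          rw [fil_eq_top P Q fun a b hab ha => absurd (show a < j + 1 by omega) ha]
          exact Submodule.mem_top)
        (by rw [← ConcreteCategory.comp_apply, HomologicalComplex.d_comp_d]; simp) he
      refine ⟨x₀ - w, 0, by rw [map_sub, hw, sub_self], ?_⟩
      rw [map_sub, show φ.f (j + 1) w = 0 from hwe, show φ.f (j + 1) x₀ = y from hx₀, map_zero,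
        sub_zero, add_zero]

/-- Homology of the total complex computes `H(M ⊗ Q)`. -/
theorem exists_iso₂ (P Q : ChainComplex (ModuleCat.{u} A) ℕ) (ε : P.X 0 ⟶ M) (h : IsRes P ε)
    (hQ : ∀ p, Module.Flat A (Q.X p)) :
    ∃ φ : HomologicalComplex.tensorObj P Q ⟶
        ((tensorLeft M).mapHomologicalComplex (ComplexShape.down ℕ)).obj Q,
      (∀ n x, φ.f n x = e₂ Q ε n x) ∧ QuasiIso φ := by
  let φ : HomologicalComplex.tensorObj P Q ⟶
      ((tensorLeft M).mapHomologicalComplex (ComplexShape.down ℕ)).obj Q :=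
    { f := fun n => ModuleCat.ofHom (e₂ Q ε n)
      comm' := fun i j hij => by
        obtain rfl : j + 1 = i := hij
        ext x
        exact (e₂_d Q h j x).symm }
  refine ⟨φ, fun n x => rfl, quasiIso_of_bijective φ fun j => ⟨?_, ?_⟩⟩
  all_goals
    have hker : ∀ x : (HomologicalComplex.tensorObj P Q).X j,
        (HomologicalComplex.tensorObj P Q).d j ((ComplexShape.down ℕ).next j) x = 0 →
        φ.f j x = 0 → ∃ w, (HomologicalComplex.tensorObj P Q).d (j + 1) j w = x :=
      fun x hx hx' => by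
        obtain ⟨w, hw, -⟩ := kernel_exact₂ Q h hQ j (j + 1) x (by
          rw [fil_eq_top P Q fun a b hab ha => absurd (show b < j + 1 by omega) ha]
          exact Submodule.mem_top) hx hx'
        exact ⟨w, hw⟩
  · refine (injective_homologyMap_iff φ (i := j + 1) (k := (ComplexShape.down ℕ).next j)
      ((ComplexShape.down ℕ).prev_eq' rfl) rfl).mpr fun x w hx hw => ?_
    obtain ⟨w', hw'⟩ := e₂_surjective Q h (j + 1) w
    obtain ⟨u, hu⟩ := hker (x - (HomologicalComplex.tensorObj P Q).d (j + 1) j w')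
      (by rw [map_sub, hx, ← ConcreteCategory.comp_apply, HomologicalComplex.d_comp_d]; simp)
      (by
        rw [map_sub, hw, ← ConcreteCategory.comp_apply ((HomologicalComplex.tensorObj P Q).d _ _),
          ← HomologicalComplex.Hom.comm, ConcreteCategory.comp_apply]
        rw [show φ.f (j + 1) w' = w from hw', sub_self])
    exact ⟨u + w', by rw [map_add, hu, sub_add_cancel]⟩
  · refine (surjective_homologyMap_iff φ (i := j + 1) (k := (ComplexShape.down ℕ).next j)
      ((ComplexShape.down ℕ).prev_eq' rfl) rfl).mpr fun y hy => ?_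
    obtain ⟨x₀, hx₀⟩ := e₂_surjective Q h j y
    rcases j with _ | j
    · refine ⟨x₀, 0, ?_, by simp [show φ.f 0 x₀ = y from hx₀]⟩
      rw [(HomologicalComplex.tensorObj P Q).shape _ _ (by simp)]
      simp
    · have hn : (ComplexShape.down ℕ).next (j + 1) = j := (ComplexShape.down ℕ).next_eq' rfl
      rw [hn] at hy ⊢
      have he : φ.f j ((HomologicalComplex.tensorObj P Q).d (j + 1) j x₀) = 0 := by
        rw [← ConcreteCategory.comp_apply, ← HomologicalComplex.Hom.comm,
          ConcreteCategory.comp_apply, show φ.f (j + 1) x₀ = y from hx₀, hy]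
      obtain ⟨w, hw, hwe⟩ := kernel_exact₂ Q h hQ j (j + 1) _ (by
          rw [fil_eq_top P Q fun a b hab ha => absurd (show b < j + 1 by omega) ha]
          exact Submodule.mem_top)
        (by rw [← ConcreteCategory.comp_apply, HomologicalComplex.d_comp_d]; simp) he
      refine ⟨x₀ - w, 0, by rw [map_sub, hw, sub_self], ?_⟩
      rw [map_sub, show φ.f (j + 1) w = 0 from hwe, show φ.f (j + 1) x₀ = y from hx₀, map_zero,
        sub_zero, add_zero]

end compare

lemma isRes_projectiveResolution {N : ModuleCat.{u} A} (R : ProjectiveResolution N) :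
    IsRes R.complex (R.π.f 0) where
  surj := (ModuleCat.epi_iff_surjective _).mp inferInstance
  exact₀ := fun y => by
    have h := (ShortComplex.moduleCat_exact_iff _).mp R.exact₀
    refine ⟨fun hy => h y hy, ?_⟩
    rintro ⟨x, rfl⟩
    exact ConcreteCategory.congr_hom R.complex_d_comp_π_f_zero x
  exact := fun n y => by
    have h := (ShortComplex.moduleCat_exact_iff _).mp (R.exact_succ n)
    refine ⟨fun hy => h y hy, ?_⟩
    rintro ⟨x, rfl⟩
    exact ConcreteCategory.congr_hom (R.complex.d_comp_d (n + 2) (n + 1) n) x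
  flat := fun n => by
    have : Module.Projective A (R.complex.X n) :=
      (IsProjective.iff_projective (R := A) (R.complex.X n)).mpr (R.projective n)
    infer_instance


end Groth.L28.Balance
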