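import Mathlib.CategoryTheory.Abelian.FreydMitchell
import Mathlib.CategoryTheory.Subobject.Limits
import Mathlib.CategoryTheory.Subobject.NoetherianObject
import Mathlib.CategoryTheory.Subobject.ArtinianObject
import Mathlib.Algebra.Category.ModuleCat.Abelian
import Mathlib.Algebra.Homology.ShortComplex.ModuleCat
import Mathlib.Algebra.Homology.ShortComplex.ExactFunctor
import Mathlib.Algebra.Homology.ShortComplex.Abelian

/-!
Elements in an abelian category, through the Freyd–Mitchell embedding.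
-/

set_option autoImplicit false

universe v u

open CategoryTheory CategoryTheory.Limits

namespace Groth.L28.Elt

variable {C : Type u} [Category.{v} C] [Abelian C]

/-- The chosen exact embedding. -/
noncomputable abbrev emb (C : Type u) [Category.{v} C] [Abelian C] :
    C ⥤ ModuleCat.{max u v} (Abelian.FreydMitchell.EmbeddingRing C) :=
  Abelian.FreydMitchell.functor C

/-- Elements of an object. -/
abbrev El (X : C) : Type (max u v) := (emb C).obj X

instance : (emb C).Additive := Functor.additive_of_preserves_binary_products _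

/-- The action of a morphism on elements. -/
noncomputable def ev {X Y : C} (f : X ⟶ Y) : El X →ₗ[Abelian.FreydMitchell.EmbeddingRing C] El Y :=
  ((emb C).map f).hom

@[simp] theorem ev_id {X : C} (x : El X) : ev (𝟙 X) x = x := by simp [ev]

@[simp] theorem ev_comp {X Y Z : C} (f : X ⟶ Y) (g : Y ⟶ Z) (x : El X) :
    ev (f ≫ g) x = ev g (ev f x) := by simp [ev]

@[simp] theorem ev_add {X Y : C} (f g : X ⟶ Y) (x : El X) : ev (f + g) x = ev f x + ev g x := by
  simp [ev, Functor.map_add]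

@[simp] theorem ev_sub {X Y : C} (f g : X ⟶ Y) (x : El X) : ev (f - g) x = ev f x - ev g x := by
  simp [ev, Functor.map_sub]

@[simp] theorem ev_zero {X Y : C} (x : El X) : ev (0 : X ⟶ Y) x = 0 := by simp [ev]

theorem hom_ext {X Y : C} {f g : X ⟶ Y} (h : ∀ x, ev f x = ev g x) : f = g :=
  (emb C).map_injective (ModuleCat.hom_ext (LinearMap.ext h))

theorem eq_zero_iff {X Y : C} {f : X ⟶ Y} : f = 0 ↔ ∀ x, ev f x = 0 :=
  ⟨fun h x => by rw [h, ev_zero], fun h => hom_ext fun x => by rw [h x, ev_zero]⟩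

theorem ev_congr {X Y : C} {f g : X ⟶ Y} (h : f = g) (x : El X) : ev f x = ev g x := by rw [h]

theorem mono_iff {X Y : C} {f : X ⟶ Y} : Mono f ↔ Function.Injective (ev f) := by
  constructor
  · intro h
    exact (ModuleCat.mono_iff_injective _).1 (inferInstanceAs (Mono ((emb C).map f)))
  · intro h
    have := (ModuleCat.mono_iff_injective ((emb C).map f)).2 h
    exact (emb C).mono_of_mono_map this

theorem epi_iff {X Y : C} {f : X ⟶ Y} : Epi f ↔ Function.Surjective (ev f) := by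
  constructor
  · intro h
    exact (ModuleCat.epi_iff_surjective _).1 (inferInstanceAs (Epi ((emb C).map f)))
  · intro h
    have := (ModuleCat.epi_iff_surjective ((emb C).map f)).2 h
    exact (emb C).epi_of_epi_map this

theorem inj {X Y : C} (f : X ⟶ Y) [Mono f] : Function.Injective (ev f) := mono_iff.1 inferInstance

theorem surj {X Y : C} (f : X ⟶ Y) [Epi f] : Function.Surjective (ev f) := epi_iff.1 inferInstance

theorem eq_zero_of_mono {X Y : C} (f : X ⟶ Y) [Mono f] {x : El X} (h : ev f x = 0) : x = 0 :=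
  inj f (by rw [h, map_zero])

theorem exact_iff (S : ShortComplex C) :
    S.Exact ↔ ∀ y : El S.X₂, ev S.g y = 0 → ∃ x : El S.X₁, ev S.f x = y := by
  rw [← ShortComplex.exact_map_iff_of_faithful S (emb C), ShortComplex.moduleCat_exact_iff]
  rfl

theorem exists_lift {X Y Z : C} (f : X ⟶ Y) [Mono f] (g : Z ⟶ Y)
    (h : ∀ z, ∃ x, ev f x = ev g z) : ∃ l : Z ⟶ X, l ≫ f = g := by
  have h0 : g ≫ cokernel.π f = 0 := by
    refine eq_zero_iff.2 fun z => ?_
    obtain ⟨x, hx⟩ := h z
    rw [ev_comp, ← hx, ← ev_comp, cokernel.condition, ev_zero]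
  exact ⟨Abelian.monoLift f g h0, Abelian.monoLift_comp f g h0⟩

theorem exists_desc {X Y Z : C} (p : X ⟶ Y) [Epi p] (g : X ⟶ Z)
    (h : ∀ x, ev p x = 0 → ev g x = 0) : ∃ d : Y ⟶ Z, p ≫ d = g := by
  have h0 : kernel.ι p ≫ g = 0 := by
    refine eq_zero_iff.2 fun x => ?_
    rw [ev_comp]
    exact h _ (by rw [← ev_comp, kernel.condition, ev_zero])
  exact ⟨Abelian.epiDesc p g h0, Abelian.comp_epiDesc p g h0⟩

theorem mem_range_kernel_ι {X Y : C} (f : X ⟶ Y) (x : El X) :
    (∃ k, ev (kernel.ι f) k = x) ↔ ev f x = 0 := by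
  constructor
  · rintro ⟨k, rfl⟩; rw [← ev_comp, kernel.condition, ev_zero]
  · intro h
    exact (exact_iff (ShortComplex.mk (kernel.ι f) f (kernel.condition f))).1
      (ShortComplex.exact_of_f_is_kernel _ (kernelIsKernel f)) x h

theorem cokernel_π_eq_zero_iff {X Y : C} (f : X ⟶ Y) (y : El Y) :
    ev (cokernel.π f) y = 0 ↔ ∃ x, ev f x = y := by
  constructor
  · intro h
    exact (exact_iff (ShortComplex.mk f (cokernel.π f) (cokernel.condition f))).1
      (ShortComplex.exact_of_g_is_cokernel _ (cokernelIsCokernel f)) y h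
  · rintro ⟨x, rfl⟩; rw [← ev_comp, cokernel.condition, ev_zero]

theorem biprod_ext {X Y : C} {a b : El (X ⊞ Y)}
    (h₁ : ev (biprod.fst : X ⊞ Y ⟶ X) a = ev biprod.fst b)
    (h₂ : ev (biprod.snd : X ⊞ Y ⟶ Y) a = ev biprod.snd b) : a = b := by
  have e : ∀ c : El (X ⊞ Y), c = ev (biprod.inl : X ⟶ X ⊞ Y) (ev biprod.fst c) +
      ev (biprod.inr : Y ⟶ X ⊞ Y) (ev biprod.snd c) := fun c => by
    rw [← ev_comp, ← ev_comp, ← ev_add, biprod.total, ev_id]
  rw [e a, e b, h₁, h₂]

/-! ### Subobjects as sets of elements -/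

/-- The submodule of elements lying in a subobject. -/
noncomputable def elts {X : C} (S : Subobject X) :
    Submodule (Abelian.FreydMitchell.EmbeddingRing C) (El X) :=
  LinearMap.range (ev S.arrow)

theorem mem_elts {X : C} {S : Subobject X} {x : El X} : x ∈ elts S ↔ ∃ s, ev S.arrow s = x := Iff.rfl

theorem elts_mk {X Y : C} (f : X ⟶ Y) [Mono f] (y : El Y) :
    y ∈ elts (Subobject.mk f) ↔ ∃ x, ev f x = y := by
  constructor
  · rintro ⟨s, rfl⟩
    refine ⟨ev (Subobject.underlyingIso f).hom s, ?_⟩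
    rw [← ev_comp, Subobject.underlyingIso_hom_comp_eq_mk]
  · rintro ⟨x, rfl⟩
    refine ⟨ev (Subobject.underlyingIso f).inv x, ?_⟩
    rw [← ev_comp, Subobject.underlyingIso_arrow]

theorem le_iff {X : C} {S T : Subobject X} : S ≤ T ↔ elts S ≤ elts T := by
  constructor
  · rintro h _ ⟨s, rfl⟩
    exact ⟨ev (Subobject.ofLE S T h) s, by rw [← ev_comp, Subobject.ofLE_arrow]⟩
  · intro h
    obtain ⟨l, hl⟩ := exists_lift T.arrow S.arrow fun z => h ⟨z, rfl⟩
    exact Subobject.le_of_comm l hl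

theorem le_iff' {X : C} {S T : Subobject X} : S ≤ T ↔ ∀ x ∈ elts S, x ∈ elts T := le_iff

theorem elts_injective {X : C} : Function.Injective (elts (X := X)) := fun _ _ h =>
  le_antisymm (le_iff.2 h.le) (le_iff.2 h.ge)

theorem eq_iff {X : C} {S T : Subobject X} : S = T ↔ ∀ x, x ∈ elts S ↔ x ∈ elts T :=
  ⟨fun h _ => by rw [h], fun h => elts_injective (Submodule.ext h)⟩

theorem mem_top {X : C} (x : El X) : x ∈ elts (⊤ : Subobject X) :=
  surj (⊤ : Subobject X).arrow x

theorem mem_bot {X : C} (x : El X) : x ∈ elts (⊥ : Subobject X) ↔ x = 0 := by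
  constructor
  · rintro ⟨s, rfl⟩; rw [Subobject.bot_arrow, ev_zero]
  · rintro rfl; exact zero_mem _

theorem mem_kernelSubobject {X Y : C} (f : X ⟶ Y) (x : El X) :
    x ∈ elts (kernelSubobject f) ↔ ev f x = 0 :=
  (elts_mk (kernel.ι f) x).trans (mem_range_kernel_ι f x)

theorem mem_imageSubobject {X Y : C} (f : X ⟶ Y) (y : El Y) :
    y ∈ elts (imageSubobject f) ↔ ∃ x, ev f x = y := by
  rw [elts, LinearMap.mem_range]
  constructor
  · rintro ⟨s, rfl⟩
    obtain ⟨x, rfl⟩ := surj (factorThruImageSubobject f) s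
    exact ⟨x, by rw [← ev_comp, imageSubobject_arrow_comp]⟩
  · rintro ⟨x, rfl⟩
    exact ⟨ev (factorThruImageSubobject f) x, by rw [← ev_comp, imageSubobject_arrow_comp]⟩

theorem mem_pullback {X Y : C} (f : X ⟶ Y) (S : Subobject Y) (x : El X) :
    x ∈ elts ((Subobject.pullback f).obj S) ↔ ev f x ∈ elts S := by
  constructor
  · rintro ⟨p, rfl⟩
    refine ⟨ev (Subobject.pullbackπ f S) p, ?_⟩
    rw [← ev_comp, ← ev_comp]
    exact ev_congr (Subobject.isPullback f S).w _
  · rintro ⟨s, hs⟩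
    let K := kernel (f ≫ cokernel.π S.arrow)
    obtain ⟨k, rfl⟩ := (mem_range_kernel_ι (f ≫ cokernel.π S.arrow) x).2
      (by rw [ev_comp, ← hs, ← ev_comp, cokernel.condition, ev_zero])
    obtain ⟨l, hl⟩ := exists_lift S.arrow (kernel.ι (f ≫ cokernel.π S.arrow) ≫ f) fun z =>
      (cokernel_π_eq_zero_iff _ _).1 (by rw [← ev_comp, Category.assoc, kernel.condition, ev_zero])
    exact ⟨ev ((Subobject.isPullback f S).lift l (kernel.ι _) hl) k,
      by rw [← ev_comp, IsPullback.lift_snd]⟩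

/-- The image of a subobject under a morphism. -/
noncomputable def img {X Y : C} (f : X ⟶ Y) (S : Subobject X) : Subobject Y :=
  imageSubobject (S.arrow ≫ f)

theorem mem_img {X Y : C} (f : X ⟶ Y) (S : Subobject X) (y : El Y) :
    y ∈ elts (img f S) ↔ ∃ x ∈ elts S, ev f x = y := by
  rw [img, mem_imageSubobject]
  constructor
  · rintro ⟨s, rfl⟩; exact ⟨_, ⟨s, rfl⟩, (ev_comp _ _ _).symm⟩
  · rintro ⟨_, ⟨s, rfl⟩, rfl⟩; exact ⟨s, ev_comp _ _ _⟩

theorem elts_sup {X : C} (S T : Subobject X) : elts (S ⊔ T) = elts S ⊔ elts T := by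
  refine le_antisymm ?_ (sup_le (le_iff.1 le_sup_left) (le_iff.1 le_sup_right))
  have h : S ⊔ T ≤ imageSubobject (biprod.desc S.arrow T.arrow) := by
    refine sup_le (le_iff'.2 ?_) (le_iff'.2 ?_) <;> rintro x ⟨s, rfl⟩ <;>
      rw [mem_imageSubobject]
    · exact ⟨ev biprod.inl s, by rw [← ev_comp, biprod.inl_desc]⟩
    · exact ⟨ev biprod.inr s, by rw [← ev_comp, biprod.inr_desc]⟩
  refine (le_iff.1 h).trans ?_
  intro y hy
  obtain ⟨x, rfl⟩ := (mem_imageSubobject _ _).1 hy
  rw [biprod.desc_eq, ev_add, ev_comp, ev_comp]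
  exact Submodule.add_mem_sup ⟨_, rfl⟩ ⟨_, rfl⟩

theorem mem_sup {X : C} (S T : Subobject X) (x : El X) :
    x ∈ elts (S ⊔ T) ↔ ∃ a ∈ elts S, ∃ b ∈ elts T, a + b = x := by
  rw [elts_sup, Submodule.mem_sup]

theorem mem_inf {X : C} (S T : Subobject X) (x : El X) :
    x ∈ elts (S ⊓ T) ↔ x ∈ elts S ∧ x ∈ elts T := by
  refine ⟨fun h => ⟨le_iff.1 inf_le_left h, le_iff.1 inf_le_right h⟩, fun ⟨hS, hT⟩ => ?_⟩
  have : kernelSubobject (biprod.lift (cokernel.π S.arrow) (cokernel.π T.arrow)) ≤ S ⊓ T := by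
    refine le_inf (le_iff'.2 fun y hy => ?_) (le_iff'.2 fun y hy => ?_)
    · rw [mem_kernelSubobject] at hy
      refine (cokernel_π_eq_zero_iff _ _).1 ?_
      rw [← biprod.lift_fst (cokernel.π S.arrow) (cokernel.π T.arrow), ev_comp, hy, map_zero]
    · rw [mem_kernelSubobject] at hy
      refine (cokernel_π_eq_zero_iff _ _).1 ?_
      rw [← biprod.lift_snd (cokernel.π S.arrow) (cokernel.π T.arrow), ev_comp, hy, map_zero]
  refine le_iff.1 this ?_
  rw [mem_kernelSubobject]
  refine biprod_ext ?_ ?_ <;> rw [← ev_comp, map_zero]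
  · rw [biprod.lift_fst]; exact (cokernel_π_eq_zero_iff _ _).2 hS
  · rw [biprod.lift_snd]; exact (cokernel_π_eq_zero_iff _ _).2 hT

/-! ### Noetherian and Artinian objects -/

theorem chain_stable {X : C} [IsNoetherianObject X] (f : ℕ → Subobject X) (hf : Monotone f) :
    ∃ n, ∀ m, n ≤ m → f m = f n := by
  obtain ⟨n, hn⟩ := monotone_chain_condition_of_isNoetherianObject (⟨f, hf⟩ : ℕ →o Subobject X)
  exact ⟨n, fun m hm => (hn m hm).symm⟩

theorem noetherian_of_epi {X Y : C} (f : X ⟶ Y) [Epi f] [IsNoetherianObject X] :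
    IsNoetherianObject Y := by
  rw [isNoetherianObject_iff_monotone_chain_condition]
  intro g
  obtain ⟨n, hn⟩ := chain_stable (fun i => (Subobject.pullback f).obj (g i))
    (fun i j h => le_iff'.2 fun x hx => by
      rw [mem_pullback] at hx ⊢; exact le_iff.1 (g.2 h) hx)
  refine ⟨n, fun m hm => eq_iff.2 fun y => ?_⟩
  obtain ⟨x, rfl⟩ := surj f y
  rw [← mem_pullback, ← mem_pullback]
  rw [show (Subobject.pullback f).obj (g m) = (Subobject.pullback f).obj (g n) from hn m hm]

theorem noetherian_of_exact {X₁ X₂ X₃ : C} (f : X₁ ⟶ X₂) (g : X₂ ⟶ X₃)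
    (hfg : ∀ y, ev g y = 0 → ∃ x, ev f x = y)
    [IsNoetherianObject X₁] [IsNoetherianObject X₃] : IsNoetherianObject X₂ := by
  rw [isNoetherianObject_iff_monotone_chain_condition]
  intro F
  obtain ⟨n₁, h₁⟩ := chain_stable (fun i => (Subobject.pullback f).obj (F i))
    (fun i j h => le_iff'.2 fun x hx => by rw [mem_pullback] at hx ⊢; exact le_iff.1 (F.2 h) hx)
  obtain ⟨n₃, h₃⟩ := chain_stable (fun i => img g (F i))
    (fun i j h => le_iff'.2 fun x hx => by
      rw [mem_img] at hx ⊢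
      obtain ⟨a, ha, rfl⟩ := hx
      exact ⟨a, le_iff.1 (F.2 h) ha, rfl⟩)
  refine ⟨max n₁ n₃, fun m hm => le_antisymm (F.2 hm) (le_iff'.2 fun y hy => ?_)⟩
  have hy' : ev g y ∈ elts (img g (F (max n₁ n₃))) := by
    rw [show img g (F (max n₁ n₃)) = img g (F m) from (h₃ _ (le_max_right _ _)).trans (h₃ _ (by omega)).symm,
      mem_img]
    exact ⟨y, hy, rfl⟩
  obtain ⟨a, ha, hga⟩ := (mem_img _ _ _).1 hy'
  obtain ⟨x, hx⟩ := hfg (y - a) (by rw [map_sub, hga, sub_self])
  have hx' : x ∈ elts ((Subobject.pullback f).obj (F m)) := by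
    rw [mem_pullback, hx]; exact sub_mem hy (le_iff.1 (F.2 hm) ha)
  rw [show (Subobject.pullback f).obj (F m) = (Subobject.pullback f).obj (F (max n₁ n₃)) from
    (h₁ _ (by omega)).trans (h₁ _ (le_max_left _ _)).symm, mem_pullback, hx] at hx'
  rw [← sub_add_cancel y a]
  exact add_mem hx' ha

theorem antichain_stable {X : C} [IsArtinianObject X] (f : ℕ → Subobject X) (hf : Antitone f) :
    ∃ n, ∀ m, n ≤ m → f m = f n := by
  obtain ⟨n, hn⟩ := antitone_chain_condition_of_isArtinianObject (X := X)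
    ⟨fun i => OrderDual.toDual (f i), fun i j h => hf h⟩
  exact ⟨n, fun m hm => (hn m hm).symm⟩

theorem artinian_of_antitone {X : C}
    (h : ∀ f : ℕ → Subobject X, Antitone f → ∃ n, ∀ m, n ≤ m → f n = f m) : IsArtinianObject X := by
  rw [isArtinianObject_iff_antitone_chain_condition]
  intro F
  exact h (fun i => OrderDual.ofDual (F i)) (fun i j hij => F.2 hij)

theorem artinian_of_exact {X₁ X₂ X₃ : C} (f : X₁ ⟶ X₂) (g : X₂ ⟶ X₃)
    (hfg : ∀ y, ev g y = 0 → ∃ x, ev f x = y)
    [IsArtinianObject X₁] [IsArtinianObject X₃] : IsArtinianObject X₂ := by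
  refine artinian_of_antitone fun F hF => ?_
  obtain ⟨n₁, h₁⟩ := antichain_stable (fun i => (Subobject.pullback f).obj (F i))
    (fun i j h => le_iff'.2 fun x hx => by rw [mem_pullback] at hx ⊢; exact le_iff.1 (hF h) hx)
  obtain ⟨n₃, h₃⟩ := antichain_stable (fun i => img g (F i))
    (fun i j h => le_iff'.2 fun x hx => by
      rw [mem_img] at hx ⊢
      obtain ⟨a, ha, rfl⟩ := hx
      exact ⟨a, le_iff.1 (hF h) ha, rfl⟩)
  refine ⟨max n₁ n₃, fun m hm => le_antisymm (le_iff'.2 fun y hy => ?_) (hF hm)⟩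
  have hy' : ev g y ∈ elts (img g (F m)) := by
    rw [show img g (F m) = img g (F (max n₁ n₃)) from (h₃ m (by omega)).trans (h₃ _ (le_max_right _ _)).symm,
      mem_img]
    exact ⟨y, hy, rfl⟩
  obtain ⟨a, ha, hga⟩ := (mem_img _ _ _).1 hy'
  obtain ⟨x, hx⟩ := hfg (y - a) (by rw [map_sub, hga, sub_self])
  have hx' : x ∈ elts ((Subobject.pullback f).obj (F (max n₁ n₃))) := by
    rw [mem_pullback, hx]; exact sub_mem hy (le_iff.1 (hF hm) ha)
  rw [show (Subobject.pullback f).obj (F (max n₁ n₃)) = (Subobject.pullback f).obj (F m) from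
    (h₁ _ (le_max_left _ _)).trans (h₁ m (by omega)).symm, mem_pullback, hx] at hx'
  rw [← sub_add_cancel y a]
  exact add_mem hx' ha

theorem artinian_of_epi {X Y : C} (f : X ⟶ Y) [Epi f] [IsArtinianObject X] :
    IsArtinianObject Y := by
  refine artinian_of_antitone fun g hg => ?_
  obtain ⟨n, hn⟩ := antichain_stable (fun i => (Subobject.pullback f).obj (g i))
    (fun i j h => le_iff'.2 fun x hx => by rw [mem_pullback] at hx ⊢; exact le_iff.1 (hg h) hx)
  refine ⟨n, fun m hm => eq_iff.2 fun y => ?_⟩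
  obtain ⟨x, rfl⟩ := surj f y
  rw [← mem_pullback, ← mem_pullback,
    show (Subobject.pullback f).obj (g m) = (Subobject.pullback f).obj (g n) from hn m hm]

end Groth.L28.Elt
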