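import Mathlib.LinearAlgebra.TensorProduct.RightExactness
import Mathlib.RingTheory.Flat.Basic

/-!
Tensoring a fibre product of modules along a surjection.
-/

set_option autoImplicit false
universe u v

open TensorProduct

namespace Groth.L28.FibreTensor

variable {R : Type u} [CommRing R] {B' B C P S : Type v} [AddCommGroup B'] [AddCommGroup B]
  [AddCommGroup C] [AddCommGroup P] [AddCommGroup S] [Module R B'] [Module R B] [Module R C]
  [Module R P] [Module R S] {f : B' →ₗ[R] B} {g : C →ₗ[R] B} {p₁ : P →ₗ[R] B'} {p₂ : P →ₗ[R] C}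

/-- `P = B' ×_B C`. -/
structure IsFibre (f : B' →ₗ[R] B) (g : C →ₗ[R] B) (p₁ : P →ₗ[R] B') (p₂ : P →ₗ[R] C) : Prop where
  comm : f.comp p₁ = g.comp p₂
  inj : ∀ z, p₁ z = 0 → p₂ z = 0 → z = 0
  ex : ∀ x y, f x = g y → ∃ z, p₁ z = x ∧ p₂ z = y

theorem tensor (h : IsFibre f g p₁ p₂) (hf : Function.Surjective f)
    (hJ : Function.Injective ((LinearMap.ker f).subtype.lTensor S)) :
    (∀ z : S ⊗[R] P, p₁.lTensor S z = 0 → p₂.lTensor S z = 0 → z = 0) ∧
      ∀ (x : S ⊗[R] B') (y : S ⊗[R] C), f.lTensor S x = g.lTensor S y →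
        ∃ z, p₁.lTensor S z = x ∧ p₂.lTensor S z = y := by
  choose ι hι using fun j : LinearMap.ker f =>
    h.ex (j : B') 0 (by rw [map_zero]; exact LinearMap.mem_ker.mp j.2)
  have hι_eq : ∀ z w, p₁ z = p₁ w → p₂ z = p₂ w → z = w := fun z w h1 h2 =>
    sub_eq_zero.mp (h.inj _ (by rw [map_sub, h1, sub_self]) (by rw [map_sub, h2, sub_self]))
  let ιl : LinearMap.ker f →ₗ[R] P :=
    { toFun := ι
      map_add' := fun a b => hι_eq _ _ (by simp [(hι _).1]) (by simp [(hι _).2])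
      map_smul' := fun a b => hι_eq _ _ (by simp [(hι _).1]) (by simp [(hι _).2]) }
  have h1 : p₁.comp ιl = (LinearMap.ker f).subtype := LinearMap.ext fun j => (hι j).1
  have h2 : p₂.comp ιl = 0 := LinearMap.ext fun j => (hι j).2
  have hp₂ : Function.Surjective p₂ := fun y => by
    obtain ⟨x, hx⟩ := hf (g y)
    obtain ⟨z, -, hz⟩ := h.ex x y hx
    exact ⟨z, hz⟩
  have hexP : Function.Exact ιl p₂ := fun z => by
    refine ⟨fun hz => ?_, ?_⟩
    · have hk : f (p₁ z) = 0 := by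
        rw [← LinearMap.comp_apply, h.comm, LinearMap.comp_apply, hz, map_zero]
      exact ⟨⟨p₁ z, hk⟩, hι_eq _ _ (hι _).1 ((hι _).2.trans hz.symm)⟩
    · rintro ⟨j, rfl⟩
      exact (hι j).2
  have hexB : Function.Exact (LinearMap.ker f).subtype f := LinearMap.exact_subtype_ker_map f
  refine ⟨fun z hz1 hz2 => ?_, fun x y hxy => ?_⟩
  · obtain ⟨t, rfl⟩ := (lTensor_exact S hexP hp₂ z).mp hz2
    rw [← LinearMap.comp_apply, ← LinearMap.lTensor_comp, h1] at hz1
    rw [hJ (hz1.trans (map_zero _).symm), map_zero]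
  · obtain ⟨z₀, rfl⟩ := LinearMap.lTensor_surjective S hp₂ y
    have : f.lTensor S (x - p₁.lTensor S z₀) = 0 := by
      rw [map_sub, hxy, ← LinearMap.comp_apply, ← LinearMap.lTensor_comp, ← LinearMap.comp_apply,
        ← LinearMap.lTensor_comp, h.comm, sub_self]
    obtain ⟨t, ht⟩ := (lTensor_exact S hexB hf _).mp this
    refine ⟨z₀ + ιl.lTensor S t, ?_, ?_⟩
    · rw [map_add, ← LinearMap.comp_apply (LinearMap.lTensor S p₁), ← LinearMap.lTensor_comp, h1,
        ht, add_sub_cancel]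
    · rw [map_add, ← LinearMap.comp_apply (LinearMap.lTensor S p₂), ← LinearMap.lTensor_comp, h2,
        LinearMap.lTensor_zero, LinearMap.zero_apply, add_zero]

theorem tensor_flat [Module.Flat R S] (h : IsFibre f g p₁ p₂) (hf : Function.Surjective f) :
    (∀ z : S ⊗[R] P, p₁.lTensor S z = 0 → p₂.lTensor S z = 0 → z = 0) ∧
      ∀ (x : S ⊗[R] B') (y : S ⊗[R] C), f.lTensor S x = g.lTensor S y →
        ∃ z, p₁.lTensor S z = x ∧ p₂.lTensor S z = y :=
  tensor h hf (Module.Flat.lTensor_preserves_injective_linearMap _ (Submodule.subtype_injective _))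

theorem tensor_flat' [Module.Flat R S] (h : IsFibre f g p₁ p₂) (hf : Function.Surjective f) :
    (∀ z : P ⊗[R] S, p₁.rTensor S z = 0 → p₂.rTensor S z = 0 → z = 0) ∧
      ∀ (x : B' ⊗[R] S) (y : C ⊗[R] S), f.rTensor S x = g.rTensor S y →
        ∃ z, p₁.rTensor S z = x ∧ p₂.rTensor S z = y := by
  obtain ⟨hi, he⟩ := tensor_flat (S := S) h hf
  have c : ∀ {X Y : Type v} [AddCommGroup X] [AddCommGroup Y] [Module R X] [Module R Y]
      (φ : X →ₗ[R] Y) (w : S ⊗[R] X),
      φ.rTensor S (TensorProduct.comm R S X w) = TensorProduct.comm R S Y (φ.lTensor S w) := by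
    intro X Y _ _ _ _ φ w
    exact LinearMap.congr_fun (LinearMap.rTensor_comp_comm φ) w
  refine ⟨fun z h1 h2 => ?_, fun x y hxy => ?_⟩
  · obtain ⟨w, rfl⟩ := (TensorProduct.comm R S P).surjective z
    rw [c, LinearEquiv.map_eq_zero_iff] at h1 h2
    rw [hi w h1 h2, map_zero]
  · obtain ⟨x, rfl⟩ := (TensorProduct.comm R S B').surjective x
    obtain ⟨y, rfl⟩ := (TensorProduct.comm R S C).surjective y
    rw [c, c, EmbeddingLike.apply_eq_iff_eq] at hxy
    obtain ⟨z, h1, h2⟩ := he x y hxy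
    exact ⟨TensorProduct.comm R S P z, by rw [c, h1], by rw [c, h2]⟩

end Groth.L28.FibreTensor
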