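import Mathlib.NumberTheory.MulChar.Basic
import Mathlib.NumberTheory.MulChar.Lemmas
import Mathlib.Algebra.Group.AddChar
import Mathlib.Algebra.GroupWithZero.Action.Defs
import Mathlib.FieldTheory.Finite.Extension
import Mathlib.RingTheory.Norm.Transitivity
import Mathlib.RingTheory.Trace.Basic
import Mathlib.RingTheory.Polynomial.UniqueFactorization
import Mathlib.Algebra.Polynomial.FieldDivision
import Mathlib.Algebra.Polynomial.Monic
import Mathlib.FieldTheory.Perfect

/-!
The Hasse–Davenport lifting relation, by the Euler product over monic irreducible polynomials.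
-/

set_option autoImplicit false
set_option linter.style.haveILetI false

open Polynomial

namespace Groth.L28.HD

variable {F R : Type} [Field F] [Fintype F] [CommRing R]
variable (χ : MulChar F R) (ψ : AddChar F R)

/-- the multiplicative weight of a monic polynomial -/
noncomputable def lam (f : F[X]) : R :=
  χ ((-1) ^ f.natDegree * f.coeff 0) * ψ (- f.nextCoeff)

lemma lam_mul {f g : F[X]} (hf : f.Monic) (hg : g.Monic) : lam χ ψ (f * g) = lam χ ψ f * lam χ ψ g := by
  rw [lam, lam, lam, hf.nextCoeff_mul hg, neg_add, AddChar.map_add_eq_mul, hf.natDegree_mul hg,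
    mul_coeff_zero, pow_add,
    show ((-1 : F) ^ f.natDegree * (-1) ^ g.natDegree * (f.coeff 0 * g.coeff 0)) =
      ((-1) ^ f.natDegree * f.coeff 0) * ((-1) ^ g.natDegree * g.coeff 0) by ring, map_mul]
  ring

lemma lam_one : lam χ ψ 1 = 1 := by
  simp [lam, Polynomial.nextCoeff]

lemma lam_pow {f : F[X]} (hf : f.Monic) : ∀ k : ℕ, lam χ ψ (f ^ k) = lam χ ψ f ^ k
  | 0 => by rw [pow_zero, pow_zero, lam_one]
  | k + 1 => by rw [pow_succ, pow_succ, lam_mul χ ψ (hf.pow k) hf, lam_pow hf k]

open scoped Classical in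
/-- monic polynomials of degree `r` -/
noncomputable def monics (F : Type) [Field F] [Fintype F] (r : ℕ) : Finset F[X] :=
  Finset.univ.image fun c : Fin r → F => X ^ r + ∑ i : Fin r, C (c i) * X ^ (i : ℕ)

lemma mem_monics {r : ℕ} {f : F[X]} : f ∈ monics F r ↔ f.Monic ∧ f.natDegree = r := by
  classical
  simp only [monics, Finset.mem_image, Finset.mem_univ, true_and]
  constructor
  · rintro ⟨c, rfl⟩
    have h : (∑ i : Fin r, C (c i) * X ^ (i : ℕ)).degree < (r : WithBot ℕ) := degree_sum_fin_lt c
    refine ⟨monic_X_pow_add h, natDegree_eq_of_degree_eq_some ?_⟩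
    rw [degree_add_eq_left_of_degree_lt (by rwa [degree_X_pow]), degree_X_pow]
  · rintro ⟨hm, rfl⟩
    refine ⟨fun i => f.coeff i, ?_⟩
    rw [Fin.sum_univ_eq_sum_range (fun i => C (f.coeff i) * X ^ i)]
    exact hm.as_sum.symm

noncomputable def A (r : ℕ) : R := ∑ f ∈ monics F r, lam χ ψ f

lemma A_zero : A χ ψ 0 = 1 := by
  have h : monics F 0 = {1} := by
    ext f
    rw [mem_monics, Finset.mem_singleton]
    exact ⟨fun h => h.1.natDegree_eq_zero.1 h.2, fun h => h ▸ ⟨monic_one, natDegree_one⟩⟩
  rw [A, h, Finset.sum_singleton, lam_one]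

lemma A_one : A χ ψ 1 = ∑ x : F, χ x * ψ x := by
  classical
  rw [A, monics, Finset.sum_image]
  · rw [← Equiv.sum_comp ((Equiv.funUnique (Fin 1) F).symm.trans (Equiv.neg _))]
    refine Finset.sum_congr rfl fun x _ => ?_
    have : (X ^ 1 + ∑ i : Fin 1, C (((Equiv.funUnique (Fin 1) F).symm.trans (Equiv.neg _)) x i) * X ^ (i : ℕ)) =
        X + C (-x) := by simp
    rw [this, lam, natDegree_X_add_C, coeff_add, coeff_X_zero, coeff_C_zero, nextCoeff_X_add_C]
    simp
  · intro c _ c' _ h
    funext i
    have := congrArg (fun f => coeff f 0) h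
    simp [Fin.fin_one_eq_zero i] at this ⊢
    exact this

lemma A_eq_zero [IsDomain R] (hψ : ψ ≠ 1) {r : ℕ} (hr : 2 ≤ r) : A χ ψ r = 0 := by
  classical
  obtain ⟨a, ha⟩ : ∃ a, ψ a ≠ 1 := by
    by_contra h
    push Not at h
    exact hψ (DFunLike.ext _ _ fun a => by simp [h a])
  have hadd : ∀ f ∈ monics F r, ∀ c : F, (f + C c * X ^ (r - 1)) ∈ monics F r := by
    intro f hf c
    obtain ⟨hm, hd⟩ := mem_monics.1 hf
    have hlt : (C c * X ^ (r - 1)).degree < f.degree := by
      rw [degree_eq_natDegree hm.ne_zero, hd]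
      exact (degree_C_mul_X_pow_le _ _).trans_lt (by exact_mod_cast (by omega : r - 1 < r))
    exact mem_monics.2 ⟨hm.add_of_left hlt, (natDegree_eq_of_degree_eq (degree_add_eq_left_of_degree_lt hlt)).trans hd⟩
  have key : ψ (-a) * A χ ψ r = A χ ψ r := by
    rw [A, Finset.mul_sum]
    refine Finset.sum_bij' (fun f _ => f + C a * X ^ (r - 1)) (fun f _ => f + C (-a) * X ^ (r - 1))
      (fun f hf => hadd f hf a) (fun f hf => hadd f hf (-a)) (fun f _ => by simp)
      (fun f _ => by simp) fun f hf => ?_
    obtain ⟨hm, hd⟩ := mem_monics.1 hf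
    obtain ⟨hm', hd'⟩ := mem_monics.1 (hadd f hf a)
    have h0 : (f + C a * X ^ (r - 1)).coeff 0 = f.coeff 0 := by
      simp [coeff_X_pow, show r - 1 ≠ 0 by omega, Ne.symm (show r - 1 ≠ 0 by omega)]
    have h1 : (f + C a * X ^ (r - 1)).nextCoeff = f.nextCoeff + a := by
      rw [nextCoeff_of_natDegree_pos (by omega), nextCoeff_of_natDegree_pos (by omega), hd', hd]
      simp
    rw [lam, lam, hd', hd, h0, h1, neg_add, AddChar.map_add_eq_mul]
    ring
  have hne : ψ (-a) ≠ 1 := fun h => ha (by
    have := AddChar.map_add_eq_mul ψ a (-a)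
    rw [add_neg_cancel, AddChar.map_zero_eq_one, h, mul_one] at this
    exact this.symm)
  rw [← sub_eq_zero, ← sub_one_mul] at key
  exact (mul_eq_zero.1 key).resolve_left (sub_ne_zero.2 hne)

open scoped Classical in
/-- monic irreducibles of degree at most `N` -/
noncomputable def irreds (F : Type) [Field F] [Fintype F] (N : ℕ) : Finset F[X] :=
  ((Finset.Icc 1 N).biUnion (monics F)).filter Irreducible

lemma mem_irreds {N : ℕ} {p : F[X]} : p ∈ irreds F N ↔ p.Monic ∧ Irreducible p ∧ p.natDegree ≤ N := by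
  classical
  simp only [irreds, Finset.mem_filter, Finset.mem_biUnion, Finset.mem_Icc, mem_monics]
  constructor
  · rintro ⟨⟨r, ⟨-, h⟩, hm, hd⟩, hi⟩
    exact ⟨hm, hi, hd ▸ h⟩
  · rintro ⟨hm, hi, hd⟩
    exact ⟨⟨_, ⟨hi.natDegree_pos, hd⟩, hm, rfl⟩, hi⟩

lemma degree_identity {N : ℕ} {f : F[X]} (hf : f.Monic) (hN : f.natDegree ≤ N) :
    ∑ p ∈ irreds F N, ∑ k ∈ Finset.Icc 1 N,
      (open scoped Classical in if p ^ k ∣ f then p.natDegree else 0) = f.natDegree := by
  classical
  have hprod := UniqueFactorizationMonoid.prod_normalizedFactors_eq (a := f) hf.ne_zero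
  rw [hf.normalize_eq_self] at hprod
  set s := UniqueFactorizationMonoid.normalizedFactors f with hs
  have hmem : ∀ q ∈ s, q.Monic ∧ Irreducible q := fun q hq =>
    ⟨by rw [← UniqueFactorizationMonoid.normalize_normalized_factor q hq]
        exact monic_normalize (UniqueFactorizationMonoid.irreducible_of_normalized_factor q hq).ne_zero,
      UniqueFactorizationMonoid.irreducible_of_normalized_factor q hq⟩
  have hdeg : f.natDegree = (s.map natDegree).sum := by
    conv_lhs => rw [← hprod]
    exact natDegree_multiset_prod_of_monic s fun q hq => (hmem q hq).1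
  have hle : ∀ q ∈ s, q.natDegree ≤ N := fun q hq =>
    le_trans (hdeg ▸ Multiset.le_sum_of_mem (Multiset.mem_map_of_mem _ hq)) hN
  have hcount : ∀ q, Irreducible q → s.count q ≤ N := fun q hq => by
    by_cases hqs : q ∈ s
    · have h1 : (Multiset.replicate (s.count q) q).map natDegree ≤ s.map natDegree :=
        Multiset.map_le_map (Multiset.le_count_iff_replicate_le.1 le_rfl)
      obtain ⟨u, hu⟩ := Multiset.le_iff_exists_add.1 h1
      have h2 := congrArg Multiset.sum hu
      rw [Multiset.map_replicate, Multiset.sum_add, Multiset.sum_replicate, smul_eq_mul] at h2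
      have := Nat.le_mul_of_pos_right (s.count q) hq.natDegree_pos
      omega
    · simp [Multiset.count_eq_zero.2 hqs]
  rw [hdeg, Finset.sum_multiset_map_count]
  refine Eq.symm ((Finset.sum_subset (fun q hq => ?_) ?_).trans (Finset.sum_congr rfl fun p hp => ?_))
  · rw [Multiset.mem_toFinset] at hq
    exact mem_irreds.2 ⟨(hmem q hq).1, (hmem q hq).2, hle q hq⟩
  · intro p _ hp
    rw [Multiset.mem_toFinset] at hp
    simp [Multiset.count_eq_zero.2 hp]
  · obtain ⟨hm, hi, -⟩ := mem_irreds.1 hp
    have hiff : ∀ k, p ^ k ∣ f ↔ k ≤ s.count p := fun k => by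
      rw [UniqueFactorizationMonoid.dvd_iff_normalizedFactors_le_normalizedFactors
        (pow_ne_zero _ hm.ne_zero) hf.ne_zero, UniqueFactorizationMonoid.normalizedFactors_pow,
        UniqueFactorizationMonoid.normalizedFactors_irreducible hi, hm.normalize_eq_self,
        Multiset.nsmul_singleton, Multiset.le_count_iff_replicate_le]
    simp only [hiff, ← Finset.sum_filter]
    rw [Finset.sum_const, smul_eq_mul]
    congr 1
    rw [show (Finset.Icc 1 N).filter (· ≤ s.count p) = Finset.Icc 1 (s.count p) by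
      ext k
      simp only [Finset.mem_filter, Finset.mem_Icc]
      exact ⟨fun h => ⟨h.1.1, h.2⟩, fun h => ⟨⟨h.1, h.2.trans (hcount p hi)⟩, h.2⟩⟩]
    simp

lemma sum_dvd {r : ℕ} {g : F[X]} (hg : g.Monic) :
    (∑ f ∈ monics F r, open scoped Classical in if g ∣ f then lam χ ψ f else 0) =
      if g.natDegree ≤ r then lam χ ψ g * A χ ψ (r - g.natDegree) else 0 := by
  classical
  rw [← Finset.sum_filter]
  split_ifs with h
  · rw [A, Finset.mul_sum]
    refine Finset.sum_bij' (fun f _ => f /ₘ g) (fun q _ => g * q) (fun f hf => ?_) (fun q hq => ?_)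
      (fun f hf => ?_) (fun q _ => ?_) (fun f hf => ?_)
    · obtain ⟨hf1, q, rfl⟩ := Finset.mem_filter.1 hf
      obtain ⟨hm, hd⟩ := mem_monics.1 hf1
      have hq : q.Monic := hg.of_mul_monic_left hm
      rw [mul_divByMonic_cancel_left _ hg]
      refine mem_monics.2 ⟨hq, ?_⟩
      rw [hg.natDegree_mul hq] at hd; omega
    · obtain ⟨hm, hd⟩ := mem_monics.1 hq
      refine Finset.mem_filter.2 ⟨mem_monics.2 ⟨hg.mul hm, ?_⟩, dvd_mul_right _ _⟩
      rw [hg.natDegree_mul hm, hd]; omega
    · obtain ⟨-, q, rfl⟩ := Finset.mem_filter.1 hf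
      rw [mul_divByMonic_cancel_left _ hg]
    · rw [mul_divByMonic_cancel_left _ hg]
    · obtain ⟨hf1, q, rfl⟩ := Finset.mem_filter.1 hf
      rw [mul_divByMonic_cancel_left _ hg, lam_mul χ ψ hg (hg.of_mul_monic_left (mem_monics.1 hf1).1)]
  · refine Finset.sum_eq_zero fun f hf => absurd ?_ h
    obtain ⟨hf1, hf2⟩ := Finset.mem_filter.1 hf
    obtain ⟨hm, hd⟩ := mem_monics.1 hf1
    exact hd ▸ natDegree_le_of_dvd hf2 hm.ne_zero

/-- the power sums -/
noncomputable def S (N r : ℕ) : R :=
  ∑ p ∈ irreds F N, ∑ k ∈ Finset.Icc 1 N,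
    if k * p.natDegree = r then (p.natDegree : R) * lam χ ψ p ^ k else 0

lemma newton [IsDomain R] (hψ : ψ ≠ 1) {N r : ℕ} (hr : 1 ≤ r) (hN : r ≤ N) :
    (r : R) * A χ ψ r = S χ ψ N r + A χ ψ 1 * S χ ψ N (r - 1) := by
  classical
  calc (r : R) * A χ ψ r
      = ∑ p ∈ irreds F N, ∑ k ∈ Finset.Icc 1 N, (p.natDegree : R) *
          ∑ f ∈ monics F r, if p ^ k ∣ f then lam χ ψ f else 0 := by
        rw [A, Finset.mul_sum]
        simp only [Finset.mul_sum]
        refine Eq.trans (b := ∑ f ∈ monics F r, ∑ p ∈ irreds F N, ∑ k ∈ Finset.Icc 1 N,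
          (p.natDegree : R) * if p ^ k ∣ f then lam χ ψ f else 0) (Finset.sum_congr rfl fun f hf => ?_) ?_
        · obtain ⟨hm, hd⟩ := mem_monics.1 hf
          conv_lhs => rw [← hd, ← degree_identity hm (hd ▸ hN)]
          simp only [Nat.cast_sum, Finset.sum_mul, Nat.cast_ite, Nat.cast_zero, ite_mul, zero_mul, mul_ite, mul_zero]
        · rw [Finset.sum_comm]
          exact Finset.sum_congr rfl fun p _ => Finset.sum_comm
    _ = S χ ψ N r + A χ ψ 1 * S χ ψ N (r - 1) := by
        rw [S, S, Finset.mul_sum, ← Finset.sum_add_distrib]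
        refine Finset.sum_congr rfl fun p hp => ?_
        rw [Finset.mul_sum, ← Finset.sum_add_distrib]
        refine Finset.sum_congr rfl fun k hk => ?_
        obtain ⟨hm, -, -⟩ := mem_irreds.1 hp
        rw [sum_dvd χ ψ (hm.pow k), hm.natDegree_pow, lam_pow χ ψ hm]
        rcases lt_trichotomy (k * p.natDegree) (r - 1) with h | h | h
        · rw [if_pos (by omega), if_neg (by omega), if_neg (by omega),
            A_eq_zero χ ψ hψ (show 2 ≤ r - k * p.natDegree by omega)]
          ring
        · rw [if_pos (by omega), if_neg (by omega), if_pos h, show r - k * p.natDegree = 1 by omega]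
          ring
        · rw [if_neg (show k * p.natDegree ≠ r - 1 by omega)]
          by_cases h' : k * p.natDegree = r
          · rw [if_pos h'.le, if_pos h', show r - k * p.natDegree = 0 by omega, A_zero]
            ring
          · rw [if_neg (by omega), if_neg h']
            ring

lemma S_eq [IsDomain R] (hψ : ψ ≠ 1) (N : ℕ) :
    ∀ r, r + 1 ≤ N → S χ ψ N (r + 1) = -(-A χ ψ 1) ^ (r + 1) := by
  intro r hr
  induction r with
  | zero =>
    have h0 : S χ ψ N 0 = 0 := by
      refine Finset.sum_eq_zero fun p hp => Finset.sum_eq_zero fun k hk => if_neg ?_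
      have := (mem_irreds.1 hp).2.1.natDegree_pos
      have := (Finset.mem_Icc.1 hk).1
      exact Nat.ne_of_gt (Nat.mul_pos this (by omega))
    have := newton χ ψ hψ le_rfl hr
    rw [Nat.sub_self, h0] at this
    simpa using this.symm
  | succ r ih =>
    have := newton χ ψ hψ (show 1 ≤ r + 2 by omega) hr
    rw [A_eq_zero χ ψ hψ (show 2 ≤ r + 2 by omega), mul_zero, show r + 2 - 1 = r + 1 by omega,
      ih (by omega)] at this
    linear_combination this.symm

variable {F' : Type} [Field F'] [Fintype F'] [Algebra F F']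

lemma lift_eq (x : F') :
    χ (Algebra.norm F x) * ψ (Algebra.trace F F' x) =
      lam χ ψ (minpoly F x) ^ Module.finrank (IntermediateField.adjoin F {x}) F' := by
  have hx : IsIntegral F x := Algebra.IsIntegral.isIntegral x
  set e := Module.finrank (IntermediateField.adjoin F {x}) F'
  have he : e ≠ 0 := Module.finrank_pos.ne'
  rw [Algebra.norm_eq_norm_adjoin F x, trace_eq_trace_adjoin F x, trace_adjoinSimpleGen hx, map_pow,
    AddChar.map_nsmul_eq_pow, ← mul_pow]
  congr 1
  rw [lam]
  congr 2
  have := Algebra.PowerBasis.norm_gen_eq_coeff_zero_minpoly (IntermediateField.adjoin.powerBasis hx)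
  simpa [IntermediateField.adjoin.powerBasis_gen, IntermediateField.adjoin.powerBasis_dim,
    IntermediateField.minpoly_gen F x] using this

theorem hasse_davenport [IsDomain R] (hψ : ψ ≠ 1) :
    -(∑ x : F', χ (Algebra.norm F x) * ψ (Algebra.trace F F' x)) =
      (-(∑ x : F, χ x * ψ x)) ^ Module.finrank F F' := by
  classical
  set n := Module.finrank F F' with hn
  have hn1 : 1 ≤ n := Module.finrank_pos
  have hsum : ∑ x : F', χ (Algebra.norm F x) * ψ (Algebra.trace F F' x) = S χ ψ n n := by
    rw [S]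
    rw [← Finset.sum_fiberwise_of_maps_to (s := Finset.univ) (t := irreds F n) (g := fun x : F' => minpoly F x)
      (fun x _ => mem_irreds.2 ⟨minpoly.monic (Algebra.IsIntegral.isIntegral x),
        minpoly.irreducible (Algebra.IsIntegral.isIntegral x), minpoly.natDegree_le x⟩)]
    refine Finset.sum_congr rfl fun p hp => ?_
    obtain ⟨hm, hi, hle⟩ := mem_irreds.1 hp
    have hd := hi.natDegree_pos
    have hmul : ∀ x : F', minpoly F x = p →
        p.natDegree * Module.finrank (IntermediateField.adjoin F {x}) F' = n := fun x hx => by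
      rw [← hx, ← IntermediateField.adjoin.finrank (Algebra.IsIntegral.isIntegral x)]
      exact Module.finrank_mul_finrank F _ F'
    by_cases hdvd : p.natDegree ∣ n
    · obtain ⟨e, he⟩ := hdvd
      have he0 : e ≠ 0 := by rintro rfl; omega
      have hterm : ∀ x : F', minpoly F x = p →
          χ (Algebra.norm F x) * ψ (Algebra.trace F F' x) = lam χ ψ p ^ e := fun x hx => by
        rw [lift_eq, hx, Nat.eq_of_mul_eq_mul_left hd ((hmul x hx).trans he)]
      rw [Finset.sum_congr rfl fun x hx => hterm x (Finset.mem_filter.1 hx).2, Finset.sum_const,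
        Finset.sum_eq_single e ?_ ?_]
      · rw [if_pos (by rw [he, mul_comm]), nsmul_eq_mul]
        congr 2
        -- the roots of `p` in `F'`
        have hne : (X ^ Nat.card F' - X : F'[X]) ≠ 0 := FiniteField.X_pow_card_sub_X_ne_zero _ (Finite.one_lt_card)
        have hsplit : (X ^ Nat.card F' - X : F'[X]).Splits := by
          rw [splits_iff_card_roots, Nat.card_eq_fintype_card, FiniteField.roots_X_pow_card_sub_X,
            FiniteField.X_pow_card_sub_X_natDegree_eq _ Fintype.one_lt_card]
          rfl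
        have hdvd' : p.map (algebraMap F F') ∣ (X ^ Nat.card F' - X : F'[X]) := by
          have h := Polynomial.map_dvd (algebraMap F F')
            ((hi.natDegree_dvd_iff_dvd_X_pow_card_pow_sub_X (n := n)).1 (he ▸ dvd_mul_right _ _))
          rw [Polynomial.map_sub, Polynomial.map_pow, Polynomial.map_X,
            ← Module.natCard_eq_pow_finrank (K := F) (V := F')] at h
          exact h
        have hsp : (p.map (algebraMap F F')).Splits := hsplit.of_dvd hne hdvd'
        have hsep : p.Separable := PerfectField.separable_of_irreducible hi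
        rw [← card_rootSet_eq_natDegree hsep hsp, ← Fintype.card_coe]
        refine (Fintype.card_congr (Equiv.subtypeEquivRight fun x => ?_))
        rw [Finset.mem_filter, mem_rootSet_of_ne hm.ne_zero]
        exact ⟨fun h => h.2 ▸ minpoly.aeval F x, fun h => ⟨Finset.mem_univ _,
          (minpoly.eq_of_irreducible_of_monic hi h hm).symm⟩⟩
      · intro k _ hk
        exact if_neg fun h => hk (Nat.eq_of_mul_eq_mul_right hd (h.trans (he.trans (mul_comm _ _))))
      · intro h
        exact absurd (Finset.mem_Icc.2 ⟨Nat.one_le_iff_ne_zero.2 he0,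
          he ▸ Nat.le_mul_of_pos_left e hd⟩) h
    · refine (Finset.sum_eq_zero fun x hx => absurd ⟨_, (hmul x (Finset.mem_filter.1 hx).2).symm⟩ hdvd).trans
        (Finset.sum_eq_zero fun k _ => if_neg fun h => hdvd ⟨k, by rw [← h, mul_comm]⟩).symm
  rw [hsum, ← A_one]
  obtain ⟨m, hm⟩ : ∃ m, n = m + 1 := ⟨n - 1, by omega⟩
  rw [hm, S_eq χ ψ hψ (m + 1) m le_rfl, neg_neg]

end Groth.L28.HD
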