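import Groth.Prelude.Def_QuadSing
import Groth.Agent.L28.PSer
import Groth.Agent.L01.FormalInverse
import Mathlib.RingTheory.MvPowerSeries.Substitution
import Mathlib.RingTheory.MvPolynomial.Homogeneous

/-!
The formal Morse lemma in any characteristic.
-/

set_option autoImplicit false
universe u
open MvPowerSeries Finset Groth.L28.PSer

namespace Groth.L28.Morse

variable {A : Type u} [CommRing A] {n : ℕ}

/-- The quadratic form with table `a` evaluated at power series. -/
noncomputable def Q (a : Fin n → Fin n → A) (v : Fin n → MvPowerSeries (Fin n) A) :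
    MvPowerSeries (Fin n) A :=
  ∑ i, ∑ j, if i ≤ j then C (a i j) * v i * v j else 0

lemma aeval_quadPoly (a : Fin n → Fin n → A) (v : Fin n → MvPowerSeries (Fin n) A) :
    MvPolynomial.aeval v (VanCyc.quadPoly a) = Q a v := by
  simp only [VanCyc.quadPoly, Q, map_sum]
  refine Finset.sum_congr rfl fun i _ => Finset.sum_congr rfl fun j _ => ?_
  split_ifs
  · simp [MvPowerSeries.algebraMap_apply]
  · simp

lemma coe_quadPoly (a : Fin n → Fin n → A) :
    ((VanCyc.quadPoly a : MvPolynomial (Fin n) A) : MvPowerSeries (Fin n) A) = Q a X := by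
  simp only [VanCyc.quadPoly, Q, ← MvPolynomial.coeToMvPowerSeries.ringHom_apply, map_sum]
  refine Finset.sum_congr rfl fun i _ => Finset.sum_congr rfl fun j _ => ?_
  split_ifs
  · simp
  · simp

lemma Q_add (a : Fin n → Fin n → A) (g : Fin n → MvPowerSeries (Fin n) A) :
    Q a (fun i => X i + g i) =
      Q a X + ∑ i, g i * ∑ j, C (VanCyc.polarMatrix a i j) * X j + Q a g := by
  have hP : ∀ i j : Fin n, C (σ := Fin n) (VanCyc.polarMatrix a i j) =
      (if i ≤ j then C (a i j) else 0) + (if j ≤ i then C (a j i) else 0) := by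
    intro i j
    unfold VanCyc.polarMatrix
    rcases lt_trichotomy i j with h | rfl | h
    · simp [h.ne, h, h.le, not_le.mpr h]
    · simp [two_mul]
    · simp [h.ne', not_lt.mpr h.le, h.le, not_le.mpr h]
  have e : ∑ i, g i * ∑ j, C (VanCyc.polarMatrix a i j) * X j =
      ∑ i, ∑ j, (if i ≤ j then C (a i j) * (g i * X j + X i * g j) else 0) := by
    simp only [Finset.mul_sum, hP, add_mul, mul_add, Finset.sum_add_distrib]
    rw [Finset.sum_comm (f := fun i j => g i * ((if j ≤ i then C (a j i) else 0) * X j)),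
      ← Finset.sum_add_distrib]
    refine Finset.sum_congr rfl fun i _ => ?_
    rw [← Finset.sum_add_distrib]
    refine Finset.sum_congr rfl fun j _ => ?_
    split_ifs <;> ring
  rw [e, Q, Q, Q, ← Finset.sum_add_distrib, ← Finset.sum_add_distrib]
  refine Finset.sum_congr rfl fun i _ => ?_
  rw [← Finset.sum_add_distrib, ← Finset.sum_add_distrib]
  refine Finset.sum_congr rfl fun j _ => ?_
  split_ifs <;> ring

lemma order_sub {f g : MvPowerSeries (Fin n) A} {m : ℕ∞} (hf : m ≤ f.order) (hg : m ≤ g.order) :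
    m ≤ (f - g).order := by
  rw [sub_eq_add_neg]
  exact (le_min hf (hg.trans_eq (order_neg g).symm)).trans min_order_le_add

lemma order_add {f g : MvPowerSeries (Fin n) A} {m : ℕ∞} (hf : m ≤ f.order) (hg : m ≤ g.order) :
    m ≤ (f + g).order :=
  (le_min hf hg).trans min_order_le_add

lemma order_sum {ι : Type*} (s : Finset ι) {f : ι → MvPowerSeries (Fin n) A} {m : ℕ∞}
    (h : ∀ i ∈ s, m ≤ (f i).order) : m ≤ (∑ i ∈ s, f i).order :=
  Groth.L01.FormalInverse.order_sum_le s f m h

lemma order_C_mul {f : MvPowerSeries (Fin n) A} {m : ℕ∞} (c : A) (hf : m ≤ f.order) :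
    m ≤ (C c * f).order :=
  le_trans (hf.trans le_add_self) le_order_mul

variable (a : Fin n → Fin n → A) (E : MvPowerSeries (Fin n) A)

/-- The map whose fixed point solves `Q (X + g) = Q X + E`. -/
noncomputable def T (g : Fin n → MvPowerSeries (Fin n) A) : Fin n → MvPowerSeries (Fin n) A :=
  fun i => ∑ j, C ((VanCyc.polarMatrix a)⁻¹ j i) * D j (E - Q a g)

lemma order_Q_sub {g g' : Fin n → MvPowerSeries (Fin n) A} {p r : ℕ}
    (hg : ∀ i, (p : ℕ∞) ≤ (g i).order) (hg' : ∀ i, (p : ℕ∞) ≤ (g' i).order)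
    (h : ∀ i, (r : ℕ∞) ≤ (g i - g' i).order) : ((p + r : ℕ) : ℕ∞) ≤ (Q a g - Q a g').order := by
  simp only [Q, ← Finset.sum_sub_distrib]
  refine order_sum _ fun i _ => order_sum _ fun j _ => ?_
  split_ifs
  · rw [show C (a i j) * g i * g j - C (a i j) * g' i * g' j =
        C (a i j) * (g i * (g j - g' j) + g' j * (g i - g' i)) by ring]
    refine order_C_mul _ (order_add (le_trans ?_ le_order_mul) (le_trans ?_ le_order_mul)) <;>
      rw [Nat.cast_add]
    · exact add_le_add (hg i) (h j)
    · exact add_le_add (hg' j) (h i)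
  · simp

lemma order_T {m : ℕ} (hm : 1 ≤ m) (hE : ((m + 1 : ℕ) : ℕ∞) ≤ E.order)
    {g : Fin n → MvPowerSeries (Fin n) A} (hg : ∀ i, (m : ℕ∞) ≤ (g i).order) (i : Fin n) :
    (m : ℕ∞) ≤ (T a E g i).order := by
  have h := order_Q_sub a (g := g) (g' := 0) (p := m) (r := m) hg (fun _ => by simp)
    (fun i => by simpa using hg i)
  refine order_sum _ fun j _ => order_C_mul _ (order_D (order_sub hE ?_) j)
  have h' : ((m + m : ℕ) : ℕ∞) ≤ (Q a g).order := by simpa [Q] using h
  exact le_trans (Nat.cast_le.mpr (by omega)) h'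

lemma order_T_sub {g g' : Fin n → MvPowerSeries (Fin n) A} {r : ℕ}
    (hg : ∀ i, (2 : ℕ∞) ≤ (g i).order) (hg' : ∀ i, (2 : ℕ∞) ≤ (g' i).order)
    (h : ∀ i, (r : ℕ∞) ≤ (g i - g' i).order) (i : Fin n) :
    ((r + 1 : ℕ) : ℕ∞) ≤ (T a E g i - T a E g' i).order := by
  simp only [T, ← Finset.sum_sub_distrib, ← mul_sub, ← map_sub]
  refine order_sum _ fun j _ => order_C_mul _ (order_D ?_ j)
  rw [show E - Q a g - (E - Q a g') = -(Q a g - Q a g') by ring, order_neg]
  refine le_trans (Nat.cast_le.mpr ?_) (order_Q_sub a (p := 2) (r := r) hg hg' h)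
  omega

theorem exists_Q_add (hP : IsUnit (VanCyc.polarMatrix a).det) {m : ℕ} (hm : 2 ≤ m)
    (hE : ((m + 1 : ℕ) : ℕ∞) ≤ E.order) :
    ∃ g : Fin n → MvPowerSeries (Fin n) A,
      (∀ i, (m : ℕ∞) ≤ (g i).order) ∧ Q a (fun i => X i + g i) = Q a X + E := by
  let s : ℕ → Fin n → MvPowerSeries (Fin n) A := fun t => (T a E)^[t] 0
  have hs : ∀ t i, (m : ℕ∞) ≤ (s t i).order := by
    intro t
    induction t with
    | zero => intro i; simp [s]
    | succ t ih =>
      intro i
      rw [show s (t + 1) = T a E (s t) from Function.iterate_succ_apply' _ _ _]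
      exact order_T a E (by omega) hE ih i
  have h2 : ∀ t i, (2 : ℕ∞) ≤ (s t i).order :=
    fun t i => le_trans (by exact_mod_cast hm) (hs t i)
  have hdiff : ∀ (t : ℕ) i, (t : ℕ∞) ≤ (s (t + 1) i - s t i).order := by
    intro t
    induction t with
    | zero => intro i; simp
    | succ t ih =>
      intro i
      rw [show s (t + 1 + 1) = T a E (s (t + 1)) from Function.iterate_succ_apply' _ _ _]
      nth_rw 2 [show s (t + 1) = T a E (s t) from Function.iterate_succ_apply' _ _ _]
      exact order_T_sub a E (h2 _) (h2 _) ih i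
  have hst : ∀ (d t : ℕ) i, (t : ℕ∞) ≤ (s (t + d) i - s t i).order := by
    intro d
    induction d with
    | zero => intro t i; simp
    | succ d ih =>
      intro t i
      rw [show s (t + (d + 1)) i - s t i = (s (t + d + 1) i - s (t + d) i) + (s (t + d) i - s t i)
        by rw [← Nat.add_assoc]; abel]
      exact order_add (le_trans (by simp) (hdiff (t + d) i)) (ih t i)
  let g : Fin n → MvPowerSeries (Fin n) A := fun i d => coeff d (s (d.degree + 1) i)
  have hg : ∀ (t : ℕ) i, (t : ℕ∞) ≤ (g i - s t i).order := by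
    intro t i
    refine nat_le_order fun d hd => ?_
    obtain ⟨c, rfl⟩ := Nat.exists_eq_add_of_le (Nat.succ_le_of_lt hd)
    have := coeff_of_lt_order (f := s (d.degree + 1 + c) i - s (d.degree + 1) i) (d := d)
      (lt_of_lt_of_le (Nat.cast_lt.mpr (Nat.lt_succ_self d.degree)) (hst c (d.degree + 1) i))
    rw [map_sub] at this ⊢
    show coeff d (s (d.degree + 1) i) - _ = 0
    rw [← neg_sub, neg_eq_zero]
    exact this
  have hgm : ∀ i, (m : ℕ∞) ≤ (g i).order := by
    intro i
    refine nat_le_order fun d hd => ?_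
    show coeff d (s (d.degree + 1) i) = 0
    exact coeff_of_lt_order (lt_of_lt_of_le (Nat.cast_lt.mpr hd) (hs (d.degree + 1) i))
  have hg2 : ∀ i, (2 : ℕ∞) ≤ (g i).order := fun i => le_trans (by exact_mod_cast hm) (hgm i)
  have hfix : ∀ i, T a E g i = g i := by
    intro i
    refine sub_eq_zero.mp (Groth.L01.FormalInverse.eq_zero_of_order fun t => ?_)
    rw [show T a E g i - g i = (T a E g i - T a E (s t) i) - (g i - s (t + 1) i) by
      rw [show s (t + 1) = T a E (s t) from Function.iterate_succ_apply' _ _ _]; abel]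
    exact order_sub (le_trans (Nat.cast_le.mpr (Nat.le_succ t))
      (order_T_sub a E hg2 (h2 t) (hg t) i)) (le_trans (Nat.cast_le.mpr (Nat.le_succ t)) (hg (t + 1) i))
  refine ⟨g, hgm, ?_⟩
  have hG : (1 : ℕ∞) ≤ (E - Q a g).order := by
    refine order_sub (le_trans (by simp) hE) ?_
    have h := order_Q_sub a (g := g) (g' := 0) (p := m) (r := m) hgm (fun _ => by simp)
      (fun i => by simpa using hgm i)
    have h' : ((m + m : ℕ) : ℕ∞) ≤ (Q a g).order := by simpa [Q] using h
    exact le_trans (by exact_mod_cast (by omega : 1 ≤ m + m)) h'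
  have key : ∑ i, g i * ∑ j, C (VanCyc.polarMatrix a i j) * X j = E - Q a g := by
    conv_lhs => enter [2, i]; rw [← hfix i]
    simp only [T, Finset.sum_mul, Finset.mul_sum]
    rw [Finset.sum_comm]
    have : ∀ l j, (∑ i, C ((VanCyc.polarMatrix a)⁻¹ l i) * D l (E - Q a g) *
        (C (VanCyc.polarMatrix a i j) * X j)) =
        if l = j then X j * D l (E - Q a g) else 0 := by
      intro l j
      have he := congrFun (congrFun (Matrix.nonsing_inv_mul _ hP) l) j
      rw [Matrix.mul_apply, Matrix.one_apply] at he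
      calc _ = C (∑ i, (VanCyc.polarMatrix a)⁻¹ l i * VanCyc.polarMatrix a i j) *
            (X j * D l (E - Q a g)) := by
            rw [map_sum, Finset.sum_mul]
            refine Finset.sum_congr rfl fun i _ => ?_
            rw [map_mul]; ring
        _ = _ := by rw [he]; split_ifs <;> simp
    calc _ = ∑ j, ∑ l, ∑ i, C ((VanCyc.polarMatrix a)⁻¹ l i) * D l (E - Q a g) *
          (C (VanCyc.polarMatrix a i j) * X j) := by
          refine Finset.sum_congr rfl fun j _ => ?_
          rw [Finset.sum_comm]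
      _ = ∑ j, X j * D j (E - Q a g) := by
          simp only [this, Finset.sum_ite_eq', Finset.mem_univ, if_true]
      _ = _ := sum_X_mul_D hG
  rw [Q_add, key]
  ring

lemma quad_repr {d : Fin n →₀ ℕ} (hd : d.degree = 2) :
    ∃ i j, i ≤ j ∧ d = Finsupp.single i 1 + Finsupp.single j 1 := by
  classical
  obtain ⟨i, hi⟩ : d.support.Nonempty := Finsupp.support_nonempty_iff.mpr (by rintro rfl; simp at hd)
  obtain ⟨c, rfl⟩ := exists_add_of_le
    (Finsupp.single_le_iff.mpr (Nat.one_le_iff_ne_zero.mpr (Finsupp.mem_support_iff.mp hi)) :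
      Finsupp.single i 1 ≤ d)
  rw [map_add, Finsupp.degree_single] at hd
  rcases degree_le_one (d := c) (by omega) with rfl | ⟨j, rfl⟩
  · simp at hd
  · rcases le_total i j with h | h
    · exact ⟨i, j, h, rfl⟩
    · exact ⟨j, i, h, add_comm _ _⟩

lemma pair_eq {i j i' j' : Fin n} (h : i ≤ j) (h' : i' ≤ j') :
    (Finsupp.single i' 1 + Finsupp.single j' 1 : Fin n →₀ ℕ) =
      Finsupp.single i 1 + Finsupp.single j 1 ↔ i' = i ∧ j' = j := by
  refine ⟨fun e => ?_, fun ⟨a, b⟩ => by rw [a, b]⟩
  have key : ∀ (x y z w : Fin n), (Finsupp.single x 1 + Finsupp.single y 1 : Fin n →₀ ℕ) =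
      Finsupp.single z 1 + Finsupp.single w 1 → x = z ∨ x = w := by
    intro x y z w hxy
    by_contra hne
    push Not at hne
    have := DFunLike.congr_fun hxy x
    simp [Finsupp.single_eq_of_ne hne.1, Finsupp.single_eq_of_ne hne.2] at this
  have h1 := key _ _ _ _ e
  have h2 := key _ _ _ _ ((add_comm _ _).trans e)
  have h3 := key _ _ _ _ e.symm
  have h4 := key _ _ _ _ ((add_comm _ _).trans e.symm)
  constructor <;> omega

lemma coeff_Q_X (d : Fin n →₀ ℕ) :
    coeff d (Q a X) = ∑ i, ∑ j,
      if i ≤ j ∧ d = Finsupp.single i 1 + Finsupp.single j 1 then a i j else 0 := by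
  classical
  simp only [Q, map_sum]
  refine Finset.sum_congr rfl fun i _ => Finset.sum_congr rfl fun j _ => ?_
  by_cases h : i ≤ j
  · rw [if_pos h, mul_assoc, coeff_C_mul, X, X, monomial_mul_monomial, coeff_monomial]
    by_cases hd : d = Finsupp.single i 1 + Finsupp.single j 1 <;> simp [h, hd]
  · simp [h]

lemma order_sub_quadPart {f : MvPowerSeries (Fin n) A} (hf : VanCyc.NoLowTerms f) :
    ((3 : ℕ) : ℕ∞) ≤ (f - Q (VanCyc.quadPart f) X).order := by
  classical
  refine nat_le_order fun d hd => ?_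
  rw [map_sub, coeff_Q_X, sub_eq_zero]
  by_cases h : d.degree = 2
  · obtain ⟨i, j, hij, rfl⟩ := quad_repr h
    rw [Finset.sum_eq_single i ?_ (by simp), Finset.sum_eq_single j ?_ (by simp), if_pos ⟨hij, rfl⟩]
    · unfold VanCyc.quadPart
      rcases hij.eq_or_lt with rfl | hlt
      · rw [if_pos rfl, ← Finsupp.single_add]
      · rw [if_neg hlt.ne, if_pos hlt]
    · intro l _ hl
      exact if_neg fun ⟨h1, h2⟩ => hl ((pair_eq hij h1).mp h2.symm).2
    · intro l _ hl
      refine Finset.sum_eq_zero fun l' _ => if_neg fun ⟨h1, h2⟩ => hl ((pair_eq hij h1).mp h2.symm).1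
  · rw [Finset.sum_eq_zero fun i _ => Finset.sum_eq_zero fun j _ => if_neg ?_]
    · rcases degree_le_one (d := d) (by omega) with rfl | ⟨i, rfl⟩
      · simpa [coeff_zero_eq_constantCoeff] using hf.1
      · exact hf.2 i
    · rintro ⟨-, rfl⟩
      simp at h

lemma polar_quadPart (f : MvPowerSeries (Fin n) A) (i j : Fin n) :
    coeff (Finsupp.single j 1) (pderiv A i f) = VanCyc.polarMatrix (VanCyc.quadPart f) i j := by
  rw [coeff_single_pderiv]
  unfold VanCyc.polarMatrix VanCyc.quadPart
  rcases lt_trichotomy i j with h | rfl | h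
  · simp [h.ne, h, add_comm]
  · simp
  · simp [h.ne', h.ne, h, not_lt.mpr h.le]

lemma quadPoly_isHomogeneous : (VanCyc.quadPoly a).IsHomogeneous 2 := by
  unfold VanCyc.quadPoly
  refine MvPolynomial.IsHomogeneous.sum _ _ _ fun i _ =>
    MvPolynomial.IsHomogeneous.sum _ _ _ fun j _ => ?_
  split_ifs
  · exact ((MvPolynomial.isHomogeneous_C _ _).mul (MvPolynomial.isHomogeneous_X _ i)).mul
      (MvPolynomial.isHomogeneous_X _ j)
  · exact MvPolynomial.isHomogeneous_zero _ _ _

lemma constantCoeff_perturb {g : Fin n → MvPowerSeries (Fin n) A} {m : ℕ} (hm : 1 ≤ m)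
    (hg : ∀ i, (m : ℕ∞) ≤ (g i).order) (i : Fin n) : constantCoeff (X i + g i) = 0 := by
  have : constantCoeff (g i) = 0 :=
    one_le_order_iff_constCoeff_eq_zero.mp (le_trans (by exact_mod_cast hm) (hg i))
  simp [this]

lemma subst_quadPoly {v : Fin n → MvPowerSeries (Fin n) A} (hv : HasSubst v) :
    subst v ((VanCyc.quadPoly a : MvPolynomial (Fin n) A) : MvPowerSeries (Fin n) A) = Q a v := by
  rw [subst_coe, aeval_quadPoly]

/-- The inverse of `X ↦ X + g`, again a small perturbation of the identity. -/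
theorem exists_inverse {g : Fin n → MvPowerSeries (Fin n) A} {m : ℕ} (hm : 2 ≤ m)
    (hg : ∀ i, (m : ℕ∞) ≤ (g i).order) :
    ∃ (φ : MvPowerSeries (Fin n) A ≃ₐ[A] MvPowerSeries (Fin n) A)
      (h : Fin n → MvPowerSeries (Fin n) A),
      (∀ i, (m : ℕ∞) ≤ (h i).order) ∧ HasSubst (fun i => X i + h i) ∧
      (∀ F, φ F = subst (fun i => X i + g i) F) ∧
      ∀ F, φ.symm F = subst (fun i => X i + h i) F := by
  have h1 : HasSubst (fun i => X i + g i) :=
    hasSubst_of_constantCoeff_zero (constantCoeff_perturb (by omega) hg)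
  set f := substAlgHom (R := A) h1 with hf
  have hfX : ∀ i, f (X i) = X i + g i := substAlgHom_X _
  have hbij : Function.Bijective f := by
    refine Groth.L01.FormalInverse.bijective_of_perturb f fun i => ?_
    rw [hfX, add_sub_cancel_left]
    exact le_trans (by exact_mod_cast hm) (hg i)
  let φ := AlgEquiv.ofBijective f hbij
  let h : Fin n → MvPowerSeries (Fin n) A := fun i => φ.symm (X i) - X i
  have hfF : ∀ F, φ F = subst (fun i => X i + g i) F := fun F => by
    show f F = _
    rw [hf, coe_substAlgHom]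
  have hc0 : ∀ F, constantCoeff (φ F) = 0 → constantCoeff F = 0 := by
    intro F hF
    have hdec : F = C (constantCoeff F) + (F - C (constantCoeff F)) := by ring
    have h0 : constantCoeff (φ (F - C (constantCoeff F))) = 0 := by
      have := Groth.L01.FormalInverse.order_map f (fun i => by
        rw [hfX]; exact constantCoeff_perturb (by omega) hg i) 1 (F - C (constantCoeff F))
        (by exact_mod_cast one_le_order_iff_constCoeff_eq_zero.mpr (by simp))
      exact one_le_order_iff_constCoeff_eq_zero.mp (by exact_mod_cast this)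
    rw [hdec, map_add, map_add, h0, add_zero, c_eq_algebraMap, AlgEquiv.commutes] at hF
    simpa [← c_eq_algebraMap] using hF
  have hcX : ∀ i, constantCoeff (φ.symm (X i)) = 0 :=
    fun i => hc0 _ (by rw [AlgEquiv.apply_symm_apply]; simp)
  have hord : ∀ i, (m : ℕ∞) ≤ (h i).order := by
    intro i
    have e : h i = φ.symm (-g i) := by
      apply φ.injective
      rw [map_sub, AlgEquiv.apply_symm_apply, AlgEquiv.apply_symm_apply]
      show X i - f (X i) = -g i
      rw [hfX]; ring
    rw [e]
    exact Groth.L01.FormalInverse.order_map φ.symm.toAlgHom hcX m (-g i)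
      (by rw [order_neg]; exact hg i)
  have h2 : HasSubst (fun i => X i + h i) :=
    hasSubst_of_constantCoeff_zero (constantCoeff_perturb (by omega) hord)
  refine ⟨φ, h, hord, h2, hfF, fun F => ?_⟩
  apply φ.injective
  rw [AlgEquiv.apply_symm_apply, hfF, subst_comp_subst_apply h2 h1]
  have : (fun i => subst (fun i => X i + g i) (X i + h i)) = (X : Fin n → MvPowerSeries (Fin n) A) := by
    funext i
    rw [← hfF, show X i + h i = φ.symm (X i) by simp [h], AlgEquiv.apply_symm_apply]
  rw [this, subst_self]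
  rfl

end Groth.L28.Morse
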