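import Groth.Agent.L28.HomElt
import Mathlib.Algebra.Category.ModuleCat.FilteredColimits
import Mathlib.Algebra.Category.ModuleCat.Colimits
import Mathlib.Algebra.Homology.HomologicalComplexLimits
import Mathlib.CategoryTheory.Limits.ConcreteCategory.Filtered

/-!
Homology of complexes of modules commutes with filtered colimits.
-/

set_option autoImplicit false
universe u w

open CategoryTheory CategoryTheory.Limits

namespace Groth.L28.HomColim

variable {R : Type u} [Ring R] {ι : Type w} {c : ComplexShape ι}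

theorem preservesColimitsOfShape_homology (J : Type u) [SmallCategory J] [IsFiltered J] (n : ι) :
    PreservesColimitsOfShape J (HomologicalComplex.homologyFunctor (ModuleCat.{u} R) c n) := by
  refine ⟨fun {K} => ⟨fun {t} ht => ?_⟩⟩
  have he : ∀ i, IsColimit ((HomologicalComplex.eval _ c i).mapCocone t) := fun i =>
    isColimitOfPreserves (HomologicalComplex.eval _ c i) ht
  have hrep : ∀ i (x : t.pt.X i), ∃ (j : J) (y : (K.obj j).X i), (t.ι.app j).f i y = x := fun i x =>
    Concrete.isColimit_exists_rep (K ⋙ HomologicalComplex.eval _ c i) (he i) x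
  have heq : ∀ i (j j' : J) (x : (K.obj j).X i) (y : (K.obj j').X i),
      (t.ι.app j).f i x = (t.ι.app j').f i y →
      ∃ (k : J) (f : j ⟶ k) (g : j' ⟶ k), (K.map f).f i x = (K.map g).f i y := fun i j j' x y h =>
    Concrete.isColimit_exists_of_rep_eq.{u} (K ⋙ HomologicalComplex.eval _ c i) (he i) x y h
  set i₀ := c.prev n
  set k₀ := c.next n
  refine ⟨isColimitOfReflects (forget (ModuleCat.{u} R)) (Types.FilteredColimit.isColimitOf' _ _ ?_ ?_)⟩
  · intro h
    obtain ⟨z, rfl⟩ := HomElt.homologyπ_surjective t.pt n h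
    obtain ⟨j, x, hx⟩ := hrep n (t.pt.iCycles n z)
    have h0 : (t.ι.app j).f k₀ ((K.obj j).d n k₀ x) = (t.ι.app j).f k₀ 0 := by
      rw [map_zero, ← ConcreteCategory.comp_apply, ← (t.ι.app j).comm, ConcreteCategory.comp_apply,
        hx]
      exact HomElt.d_iCycles n k₀ z
    obtain ⟨k, f, g, hfg⟩ := heq k₀ j j _ _ h0
    rw [map_zero, ← ConcreteCategory.comp_apply, ← (K.map f).comm, ConcreteCategory.comp_apply]
      at hfg
    obtain ⟨z', hz'⟩ := HomElt.exists_cycle (K := K.obj k) (j := n) (k := k₀) rfl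
      ((K.map f).f n x) hfg
    refine ⟨k, (K.obj k).homologyπ n z', ?_⟩
    show t.pt.homologyπ n z = HomologicalComplex.homologyMap (t.ι.app k) n _
    rw [HomElt.homologyMap_π]
    refine congrArg (t.pt.homologyπ n) (HomElt.iCycles_injective t.pt n ?_)
    rw [HomElt.iCycles_cyclesMap, hz', ← hx, ← ConcreteCategory.comp_apply,
      ← HomologicalComplex.comp_f, t.w f]
  · intro j (a : (K.obj j).homology n) (b : (K.obj j).homology n) hab
    change HomologicalComplex.homologyMap (t.ι.app j) n a =
      HomologicalComplex.homologyMap (t.ι.app j) n b at hab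
    rw [← sub_eq_zero, ← map_sub] at hab
    obtain ⟨z, hz⟩ := HomElt.homologyπ_surjective (K.obj j) n (a - b)
    rw [← hz, HomElt.homologyMap_π, HomElt.π_eq_zero_iff (i := i₀) rfl] at hab
    obtain ⟨y, hy⟩ := hab
    rw [HomElt.iCycles_cyclesMap] at hy
    obtain ⟨j', y', rfl⟩ := hrep i₀ y
    rw [← ConcreteCategory.comp_apply] at hy
    erw [(t.ι.app j').comm, ConcreteCategory.comp_apply] at hy
    obtain ⟨k, f, g, hfg⟩ := heq n j' j _ _ hy
    rw [← ConcreteCategory.comp_apply, ← (K.map f).comm, ConcreteCategory.comp_apply] at hfg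
    refine ⟨k, g, ?_⟩
    show HomologicalComplex.homologyMap (K.map g) n a = HomologicalComplex.homologyMap (K.map g) n b
    rw [← sub_eq_zero, ← map_sub, ← hz, HomElt.homologyMap_π, HomElt.π_eq_zero_iff (i := i₀) rfl]
    exact ⟨(K.map f).f i₀ y', by rw [HomElt.iCycles_cyclesMap]; exact hfg⟩

end Groth.L28.HomColim
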