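import Mathlib.FieldTheory.IsSepClosed
import Mathlib.FieldTheory.Separable
import Mathlib.Algebra.CharP.Lemmas
import Mathlib.LinearAlgebra.Dimension.Finite
import Mathlib.LinearAlgebra.Dimension.Constructions
import Mathlib.LinearAlgebra.FiniteDimensional.Basic
import Mathlib.LinearAlgebra.Quotient.Basic
import Mathlib.LinearAlgebra.Dimension.OrzechProperty
import Mathlib.Tactic.LinearCombination
import Mathlib.Tactic.Abel
import Mathlib.Tactic.Ring

/-!
Semilinear endomorphisms for a power of the Frobenius over a separably closed field.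
-/

set_option autoImplicit false

universe u v

open Polynomial

namespace Groth.L28.QLinear

variable {k : Type u} [Field k] {p : ℕ} [Fact p.Prime] [CharP k p]

theorem cast_q (r : ℕ) (hr : 0 < r) : ((p ^ r : ℕ) : k) = 0 := by
  rw [Nat.cast_pow, CharP.cast_eq_zero, zero_pow (by omega)]

theorem one_lt_q (r : ℕ) (hr : 0 < r) : 1 < p ^ r :=
  Nat.one_lt_pow (by omega) (Fact.out : p.Prime).one_lt

/-- the Artin–Schreier equation -/
theorem exists_pow_sub_self [IsSepClosed k] {r : ℕ} (hr : 0 < r) (a : k) :
    ∃ x : k, x ^ p ^ r - x + a = 0 := by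
  let Q : k[X] := X ^ p ^ r - X + C a
  have hq := one_lt_q (p := p) r hr
  have hd : Q.derivative = -1 := by
    simp only [Q, derivative_add, derivative_sub, derivative_X_pow, derivative_X, derivative_C,
      cast_q r hr, map_zero, zero_mul, zero_sub, add_zero]
  have hs : Q.Separable := (separable_def' Q).2 ⟨0, -1, by rw [hd]; ring⟩
  have hdeg : Q.degree ≠ 0 := by
    intro h
    have h1 : Q.natDegree = 0 := natDegree_eq_zero_iff_degree_le_zero.2 (le_of_eq h)
    have h2 : Q.coeff (p ^ r) = 1 := by
      simp only [Q, coeff_add, coeff_sub, coeff_X_pow_self, coeff_X, coeff_C,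
        if_neg (show p ^ r ≠ 0 by omega), if_neg (show 1 ≠ p ^ r by omega), sub_zero, add_zero]
    rw [eq_C_of_natDegree_eq_zero h1, coeff_C, if_neg (by omega)] at h2
    exact zero_ne_one h2
  obtain ⟨x, hx⟩ := IsSepClosed.exists_root Q hdeg hs
  exact ⟨x, by simpa [Q] using hx⟩

variable {V : Type v} [AddCommGroup V] [Module k V] {r : ℕ}

/-- A `q`-linear additive map as a semilinear map. -/
noncomputable def toSemilinear (φ : V →+ V) (hφ : ∀ (c : k) (v : V), φ (c • v) = c ^ (p ^ r) • φ v) :
    V →ₛₗ[iterateFrobenius k p r] V where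
  toFun := φ
  map_add' := map_add φ
  map_smul' c v := hφ c v

theorem map_smul_pow (φ : V →ₛₗ[iterateFrobenius k p r] V) (c : k) (v : V) :
    φ (c • v) = c ^ p ^ r • φ v := by
  rw [LinearMap.map_smulₛₗ, iterateFrobenius_def]

theorem iterate_smul (φ : V →ₛₗ[iterateFrobenius k p r] V) (n : ℕ) (c : k) (v : V) :
    φ^[n] (c • v) = c ^ (p ^ r) ^ n • φ^[n] v := by
  induction n with
  | zero => simp
  | succ n ih =>
    rw [Function.iterate_succ_apply', Function.iterate_succ_apply', ih, map_smul_pow, ← pow_mul,
      ← pow_succ]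

theorem iterate_add' (φ : V →ₛₗ[iterateFrobenius k p r] V) (n : ℕ) (v w : V) :
    φ^[n] (v + w) = φ^[n] v + φ^[n] w :=
  iterate_map_add φ n v w

theorem iterate_zero' (φ : V →ₛₗ[iterateFrobenius k p r] V) (n : ℕ) : φ^[n] 0 = 0 :=
  iterate_map_zero φ n

theorem iterate_sum' (φ : V →ₛₗ[iterateFrobenius k p r] V) (n : ℕ) {ι : Type*} (s : Finset ι) (w : ι → V) :
    φ^[n] (∑ i ∈ s, w i) = ∑ i ∈ s, φ^[n] (w i) := by
  classical
  induction s using Finset.induction_on with
  | empty => simp [iterate_zero']
  | insert a s ha ih => rw [Finset.sum_insert ha, Finset.sum_insert ha, iterate_add', ih]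

/-- The submodule spanned by the fixed vectors. -/
noncomputable def fixSpan (φ : V →ₛₗ[iterateFrobenius k p r] V) : Submodule k V :=
  Submodule.span k {v | φ v = v}

theorem map_span_image_le (φ : V →ₛₗ[iterateFrobenius k p r] V) (s : Set V) :
    ∀ v ∈ Submodule.span k s, φ v ∈ Submodule.span k (φ '' s) := by
  intro v hv
  induction hv using Submodule.span_induction with
  | mem x hx => exact Submodule.subset_span ⟨x, hx, rfl⟩
  | zero => simp
  | add x y _ _ hx hy => rw [map_add]; exact add_mem hx hy
  | smul c x _ hx => rw [map_smul_pow]; exact Submodule.smul_mem _ _ hx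

/-- A semilinear map is injective on a submodule generated by its own image. -/
theorem eq_zero_of_map_eq_zero [FiniteDimensional k V] (φ : V →ₛₗ[iterateFrobenius k p r] V)
    (U : Submodule k V) (hU : Submodule.span k (φ '' U) = U) :
    ∀ v ∈ U, φ v = 0 → v = 0 := by
  intro v hv h0
  let b := Module.finBasis k U
  have hspan : Submodule.span k (Set.range fun i => φ (b i : V)) = U := by
    refine le_antisymm (Submodule.span_le.2 ?_) ?_
    · rintro _ ⟨i, rfl⟩
      exact hU.le (Submodule.subset_span ⟨b i, (b i).2, rfl⟩)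
    · conv_lhs => rw [← hU]
      refine Submodule.span_le.2 ?_
      rintro _ ⟨x, hx, rfl⟩
      have : x ∈ Submodule.span k (Set.range fun i => (b i : V)) := by
        rw [show (fun i => (b i : V)) = U.subtype ∘ b from rfl, Set.range_comp, Submodule.span_image,
          b.span_eq, Submodule.map_top, Submodule.range_subtype]
        exact hx
      have := map_span_image_le φ _ x this
      rwa [← Set.range_comp] at this
  have hli : LinearIndependent k fun i => φ (b i : V) := by
    refine linearIndependent_iff_card_eq_finrank_span.2 ?_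
    rw [Set.finrank, hspan, Fintype.card_fin]
  have hv' : v = ∑ i, b.repr ⟨v, hv⟩ i • (b i : V) := by
    have := congrArg Subtype.val (b.sum_repr ⟨v, hv⟩)
    rw [Submodule.coe_sum] at this
    exact this.symm
  rw [hv', map_sum] at h0
  simp only [map_smul_pow] at h0
  have h1 := Fintype.linearIndependent_iff.1 hli _ h0
  rw [hv']
  refine Finset.sum_eq_zero fun i _ => ?_
  rw [eq_zero_of_pow_eq_zero (h1 i), zero_smul]

/-- The iterated polynomials computing a fixed vector in a cyclic subspace. -/
noncomputable def fixPoly (q : ℕ) (a : ℕ → k) : ℕ → k[X]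
  | 0 => C (a 0) * X ^ q
  | i + 1 => fixPoly q a i ^ q + C (a (i + 1)) * X ^ q

theorem fixPoly_derivative {q : ℕ} (hq : (q : k) = 0) (a : ℕ → k) :
    ∀ i, (fixPoly q a i).derivative = 0
  | 0 => by simp [fixPoly, derivative_X_pow, hq]
  | i + 1 => by simp [fixPoly, derivative_X_pow, derivative_pow, hq]

theorem fixPoly_natDegree {q : ℕ} (hq : 1 < q) (a : ℕ → k) :
    ∀ i, ((∀ j ≤ i, a j = 0) ∧ fixPoly q a i = 0) ∨ q ≤ (fixPoly q a i).natDegree
  | 0 => by
    by_cases h : a 0 = 0
    · exact Or.inl ⟨fun j hj => by rw [Nat.le_zero.1 hj]; exact h, by simp [fixPoly, h]⟩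
    · exact Or.inr (by rw [fixPoly, natDegree_C_mul_X_pow _ _ h])
  | i + 1 => by
    rcases fixPoly_natDegree hq a i with ⟨h0, h1⟩ | h
    · by_cases h : a (i + 1) = 0
      · refine Or.inl ⟨fun j hj => ?_, by simp [fixPoly, h, h1, zero_pow (show q ≠ 0 by omega)]⟩
        rcases Nat.lt_or_ge j (i + 1) with hj' | hj'
        · exact h0 j (by omega)
        · rwa [show j = i + 1 by omega]
      · exact Or.inr (by rw [fixPoly, h1, zero_pow (by omega), zero_add, natDegree_C_mul_X_pow _ _ h])
    · refine Or.inr ?_
      have hlt : (C (a (i + 1)) * X ^ q).natDegree < (fixPoly q a i ^ q).natDegree := by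
        refine lt_of_le_of_lt (natDegree_C_mul_X_pow_le _ _) ?_
        rw [natDegree_pow]
        nlinarith
      rw [fixPoly, natDegree_add_eq_left_of_natDegree_lt hlt, natDegree_pow]
      nlinarith

theorem exists_fixed [IsSepClosed k] [FiniteDimensional k V] (hr : 0 < r)
    (φ : V →ₛₗ[iterateFrobenius k p r] V) (U : Submodule k V)
    (hU : Submodule.span k (φ '' U) = U) (hU0 : U ≠ ⊥) :
    ∃ c ∈ U, c ≠ 0 ∧ φ c = c := by
  classical
  obtain ⟨v, hv, hv0⟩ := (Submodule.ne_bot_iff U).1 hU0
  set w : ℕ → V := fun i => φ^[i] v with hw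
  have hwU : ∀ i, w i ∈ U := by
    intro i
    induction i with
    | zero => exact hv
    | succ i ih =>
      rw [hw]; simp only [Function.iterate_succ_apply']
      exact hU.le (Submodule.subset_span ⟨_, ih, rfl⟩)
  have hw0 : ∀ i, w i ≠ 0 := by
    intro i
    induction i with
    | zero => exact hv0
    | succ i ih =>
      intro h
      rw [hw] at h; simp only [Function.iterate_succ_apply'] at h
      exact ih (eq_zero_of_map_eq_zero φ U hU _ (hwU i) h)
  have hex : ∃ d, ¬ LinearIndependent k (fun i : Fin (d + 1) => w i) := by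
    refine ⟨Module.finrank k V, fun h => ?_⟩
    have := h.fintype_card_le_finrank
    simp at this
  let d := Nat.find hex
  have hd : ¬ LinearIndependent k (fun i : Fin (d + 1) => w i) := Nat.find_spec hex
  obtain ⟨e, he⟩ : ∃ e, d = e + 1 := by
    refine ⟨d - 1, ?_⟩
    by_contra h
    have hd0 : d = 0 := by omega
    rw [hd0] at hd
    exact hd ((linearIndependent_unique_iff (ι := Fin 1)).2 (hw0 _))
  have hli : LinearIndependent k (fun i : Fin d => w i) := by
    have := Nat.find_min hex (show e < d by omega)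
    rw [not_not] at this
    rw [he]; exact this
  have hmem : w d ∈ Submodule.span k (Set.range fun i : Fin d => w i) := by
    by_contra hnot
    apply hd
    rw [linearIndependent_finSucc']
    exact ⟨hli, hnot⟩
  obtain ⟨a, ha⟩ := (Submodule.mem_span_range_iff_exists_fun k).1 hmem
  let a' : ℕ → k := fun i => if h : i < d then a ⟨i, h⟩ else 0
  have ha' : ∑ i ∈ Finset.range d, a' i • w i = w d := by
    rw [← ha, ← Fin.sum_univ_eq_sum_range]
    exact Finset.sum_congr rfl fun i _ => by simp [a', i.2]
  set q := p ^ r with hq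
  have hq1 : 1 < q := one_lt_q r hr
  let Q : k[X] := fixPoly q a' e - X
  have hQd : Q.derivative = -1 := by
    rw [derivative_sub, fixPoly_derivative (cast_q r hr), derivative_X, zero_sub]
  have hQs : Q.Separable := (separable_def' Q).2 ⟨0, -1, by rw [hQd]; ring⟩
  have hdeg : q ≤ Q.natDegree := by
    rcases fixPoly_natDegree hq1 a' e with ⟨h0, _⟩ | h
    · exfalso
      refine hw0 d ?_
      rw [← ha']
      refine Finset.sum_eq_zero fun i hi => ?_
      rw [h0 i (by rw [Finset.mem_range] at hi; omega), zero_smul]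
    · rw [natDegree_sub_eq_left_of_natDegree_lt (lt_of_le_of_lt natDegree_X_le (lt_of_lt_of_le hq1 h))]
      exact h
  obtain ⟨x, hx, hx0⟩ : ∃ x, Q.eval x = 0 ∧ x ≠ 0 := by
    have hsp := IsSepClosed.splits_of_separable Q hQs
    have hcard : 2 ≤ Q.roots.card := by rw [← hsp.natDegree_eq_card_roots]; omega
    by_contra hcon
    push Not at hcon
    have : ∀ y ∈ Q.roots, y = 0 := fun y hy => hcon y ((mem_roots'.1 hy).2)
    have h2 := Multiset.eq_replicate_card.2 this
    have := nodup_roots hQs
    rw [h2, Multiset.nodup_iff_count_le_one] at this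
    have := this 0
    rw [Multiset.count_replicate_self] at this
    omega
  let c : ℕ → k := fun i => (fixPoly q a' i).eval x
  have hce : c e = x := by
    simpa [c, Q, sub_eq_zero] using hx
  have hrec : ∀ n, φ (∑ i ∈ Finset.range (n + 1), c i • w i) + c e ^ q • (∑ i ∈ Finset.range (n + 1), a' i • w i)
      = (∑ i ∈ Finset.range (n + 1), c i • w i) + c n ^ q • w (n + 1) := by
    intro n
    induction n with
    | zero =>
      simp only [zero_add, Finset.sum_range_one, map_smul_pow, smul_smul]
      rw [show c 0 = a' 0 * x ^ q by simp [c, fixPoly], hce, mul_comm (x ^ q) (a' 0), add_comm]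
      rfl
    | succ n ih =>
      rw [Finset.sum_range_succ _ (n + 1), Finset.sum_range_succ (fun i => a' i • w i) (n + 1), map_add, smul_add]
      have h1 : c (n + 1) = c n ^ q + c e ^ q * a' (n + 1) := by
        rw [hce]; simp [c, fixPoly]; ring
      have h2 : φ (w (n + 1)) = w (n + 1 + 1) := by simp [hw, Function.iterate_succ_apply']
      rw [add_add_add_comm, ih, map_smul_pow, h2, smul_smul,
        show c (n + 1) • w (n + 1) = c n ^ q • w (n + 1) + (c e ^ q * a' (n + 1)) • w (n + 1) by
          rw [← add_smul, ← h1]]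
      rw [hq]
      abel
  have hfix := hrec e
  rw [← he, ha', add_left_inj] at hfix
  refine ⟨_, Submodule.sum_mem _ fun i _ => Submodule.smul_mem _ _ (hwU i), ?_, hfix⟩
  intro h
  rw [← Fin.sum_univ_eq_sum_range (fun i => c i • w i)] at h
  have := Fintype.linearIndependent_iff.1 hli _ h ⟨e, by omega⟩
  exact hx0 (hce ▸ this)

theorem le_fixSpan [IsSepClosed k] [FiniteDimensional k V] (hr : 0 < r)
    (φ : V →ₛₗ[iterateFrobenius k p r] V) (U : Submodule k V)
    (hU : Submodule.span k (φ '' U) = U) : U ≤ fixSpan φ := by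
  set W := fixSpan φ with hW
  have hWφ : W ≤ W.comap φ := by
    refine Submodule.span_le.2 fun v hv => ?_
    show φ v ∈ W
    rw [show φ v = v from hv]
    exact Submodule.subset_span hv
  by_contra hle
  let ψ : V ⧸ W →ₛₗ[iterateFrobenius k p r] V ⧸ W := W.mapQ W φ hWφ
  have hU' : Submodule.span k (ψ '' (U.map W.mkQ)) = U.map W.mkQ := by
    conv_rhs => rw [← hU, Submodule.map_span]
    congr 1
    rw [Submodule.map_coe, Set.image_image, Set.image_image]
    rfl
  have hne : U.map W.mkQ ≠ ⊥ := by
    intro h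
    exact hle fun x hx => (Submodule.Quotient.mk_eq_zero W).1 (h.le ⟨x, hx, rfl⟩)
  obtain ⟨c, hc, hc0, hcf⟩ := exists_fixed hr ψ _ hU' hne
  obtain ⟨w, -, rfl⟩ := Submodule.mem_map.1 hc
  have hdiff : φ w - w ∈ W := (Submodule.Quotient.eq W).1 hcf
  obtain ⟨z, hz, hzf⟩ : ∃ z ∈ W, φ z - z = -(φ w - w) := by
    have key : ∀ y ∈ W, ∃ z ∈ W, φ z - z = y := by
      intro y hy
      rw [hW, fixSpan] at hy
      induction hy using Submodule.span_induction with
      | mem y hy =>
        obtain ⟨x, hx⟩ := exists_pow_sub_self (p := p) hr (-1 : k)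
        refine ⟨x • y, Submodule.smul_mem _ _ (Submodule.subset_span hy), ?_⟩
        rw [map_smul_pow, show φ y = y from hy, ← sub_smul]
        rw [show x ^ p ^ r - x = 1 by linear_combination hx, one_smul]
      | zero => exact ⟨0, zero_mem _, by simp⟩
      | add a b _ _ ha hb =>
        obtain ⟨za, hza, ea⟩ := ha
        obtain ⟨zb, hzb, eb⟩ := hb
        exact ⟨za + zb, add_mem hza hzb, by rw [map_add, ← ea, ← eb]; abel⟩
      | smul a b hb' hb =>
        clear hb
        induction hb' using Submodule.span_induction generalizing a with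
        | mem y hy =>
          obtain ⟨x, hx⟩ := exists_pow_sub_self (p := p) hr (-a)
          refine ⟨x • y, Submodule.smul_mem _ _ (Submodule.subset_span hy), ?_⟩
          rw [map_smul_pow, show φ y = y from hy, ← sub_smul]
          rw [show x ^ p ^ r - x = a by linear_combination hx]
        | zero => exact ⟨0, zero_mem _, by simp⟩
        | add b b' _ _ hb hb' =>
          obtain ⟨za, hza, ea⟩ := hb a
          obtain ⟨zb, hzb, eb⟩ := hb' a
          exact ⟨za + zb, add_mem hza hzb, by rw [map_add, smul_add, ← ea, ← eb]; abel⟩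
        | smul s b _ hb =>
          obtain ⟨za, hza, ea⟩ := hb (a * s)
          exact ⟨za, hza, by rw [ea, smul_smul]⟩
    exact key _ (neg_mem hdiff)
  have hfix : φ (w + z) = w + z := by
    rw [map_add, eq_add_of_sub_eq hzf]; abel
  apply hc0
  rw [Submodule.mkQ_apply, Submodule.Quotient.mk_eq_zero]
  have : w + z ∈ W := Submodule.subset_span hfix
  exact (add_mem_cancel_right hz).1 this

/-- The stable image of a semilinear map. -/
theorem span_range_iterate_succ (φ : V →ₛₗ[iterateFrobenius k p r] V) (n : ℕ) :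
    Submodule.span k (φ '' (Submodule.span k (Set.range φ^[n]) : Submodule k V)) =
      Submodule.span k (Set.range φ^[n + 1]) := by
  have hr' : Set.range φ^[n + 1] = φ '' Set.range φ^[n] := by
    rw [Function.iterate_succ', Set.range_comp]
  rw [hr']
  refine le_antisymm (Submodule.span_le.2 ?_) (Submodule.span_mono (Set.image_mono Submodule.subset_span))
  rintro _ ⟨x, hx, rfl⟩
  exact map_span_image_le φ _ x hx

theorem span_range_iterate_antitone (φ : V →ₛₗ[iterateFrobenius k p r] V) {m n : ℕ} (h : m ≤ n) :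
    Submodule.span k (Set.range φ^[n]) ≤ Submodule.span k (Set.range φ^[m]) := by
  refine Submodule.span_mono ?_
  rintro _ ⟨v, rfl⟩
  exact ⟨φ^[n - m] v, by rw [← Function.iterate_add_apply, Nat.add_sub_cancel' h]⟩

theorem exists_iterate_mem_fixSpan [IsSepClosed k] [FiniteDimensional k V] (hr : 0 < r)
    (φ : V →ₛₗ[iterateFrobenius k p r] V) :
    ∃ N, ∀ n, N ≤ n → Submodule.span k (Set.range φ^[n]) = fixSpan φ := by
  classical
  let f : ℕ → ℕ := fun n => Module.finrank k (Submodule.span k (Set.range φ^[n]))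
  obtain ⟨N, hN⟩ : ∃ N, ∀ m, f N ≤ f m := by
    obtain ⟨N, hN⟩ := Nat.find_spec (⟨f 0, 0, rfl⟩ : ∃ x, ∃ N, f N = x)
    exact ⟨N, fun m => hN.le.trans (Nat.find_le ⟨m, rfl⟩)⟩
  refine ⟨N, fun n hn => ?_⟩
  have hst : ∀ m, N ≤ m → Submodule.span k (Set.range φ^[m]) = Submodule.span k (Set.range φ^[N]) :=
    fun m hm => Submodule.eq_of_le_of_finrank_le (span_range_iterate_antitone φ hm) (hN m)
  rw [hst n hn]
  refine le_antisymm (le_fixSpan hr φ _ ?_) (Submodule.span_le.2 fun v hv => ?_)
  · rw [span_range_iterate_succ, hst _ (Nat.le_succ N)]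
  · exact Submodule.subset_span ⟨v, Function.iterate_fixed hv N⟩

theorem fixSpan_eq_top [IsSepClosed k] [FiniteDimensional k V] (hr : 0 < r)
    (φ : V →ₛₗ[iterateFrobenius k p r] V) (hss : Submodule.span k (Set.range φ) = ⊤) :
    fixSpan φ = ⊤ := by
  refine eq_top_iff.2 (le_fixSpan hr φ ⊤ ?_)
  rw [Submodule.top_coe, Set.image_univ]
  exact hss

/-- A basis of the span of the fixed vectors consisting of fixed vectors. -/
theorem exists_basis_fixSpan [FiniteDimensional k V] (φ : V →ₛₗ[iterateFrobenius k p r] V) :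
    ∃ b : Module.Basis (Fin (Module.finrank k (fixSpan φ))) k (fixSpan φ),
      ∀ i, φ (b i : V) = (b i : V) := by
  classical
  obtain ⟨s, hs, hspan, hli⟩ := exists_linearIndependent k {v : V | φ v = v}
  haveI : Finite s := hli.finite
  haveI : Fintype s := Fintype.ofFinite s
  let e : Submodule.span k (Set.range ((↑) : s → V)) = fixSpan φ := by
    rw [Subtype.range_coe]; exact hspan
  let b0 : Module.Basis s k (fixSpan φ) := (Module.Basis.span hli).map (LinearEquiv.ofEq _ _ e)
  have hb0 : ∀ i, (b0 i : V) = (i : V) := fun i => by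
    simp only [b0, Module.Basis.map_apply, LinearEquiv.coe_ofEq_apply, Module.Basis.span_apply]
  have hc : Fintype.card s = Fintype.card (Fin (Module.finrank k (fixSpan φ))) := by
    rw [Fintype.card_fin, Module.finrank_eq_card_basis b0]
  refine ⟨b0.reindex (Fintype.equivOfCardEq hc), fun i => ?_⟩
  rw [Module.Basis.reindex_apply, hb0]
  exact hs ((Fintype.equivOfCardEq hc).symm i).2

/-- Coordinates of a vector fixed by an iterate are fixed by the corresponding power. -/
theorem repr_pow_eq (φ : V →ₛₗ[iterateFrobenius k p r] V) {ι : Type*} [Fintype ι] (U : Submodule k V)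
    (b : Module.Basis ι k U) (hb : ∀ i, φ (b i : V) = (b i : V)) (n : ℕ) (v : U)
    (hv : φ^[n] (v : V) = v) (i : ι) : b.repr v i ^ (p ^ r) ^ n = b.repr v i := by
  have hv' : (v : V) = ∑ j, b.repr v j • (b j : V) := by
    have := congrArg Subtype.val (b.sum_repr v)
    rw [Submodule.coe_sum] at this
    exact this.symm
  have h1 : (∑ j, b.repr v j ^ (p ^ r) ^ n • b j : U) = v := by
    apply Subtype.ext
    conv_rhs => rw [← hv, hv', iterate_sum']
    rw [Submodule.coe_sum]
    refine Finset.sum_congr rfl fun j _ => ?_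
    rw [iterate_smul, Function.iterate_fixed (hb j) n]
    rfl
  have := congrFun (congrArg (fun x : U => ⇑(b.repr x)) h1) i
  rwa [b.repr_sum_self] at this

end Groth.L28.QLinear
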