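import Mathlib.RingTheory.Etale.StandardEtale
import Mathlib.RingTheory.RingHom.Etale
import Mathlib.RingTheory.Spectrum.Prime.Chevalley
import Mathlib.LinearAlgebra.Matrix.SchurComplement
import Mathlib.LinearAlgebra.Matrix.Nondegenerate
import Mathlib.LinearAlgebra.Basis.VectorSpace
import Mathlib.LinearAlgebra.Dimension.Free
import Mathlib.FieldTheory.IsAlgClosed.AlgebraicClosure
import Mathlib.RingTheory.LocalRing.ResidueField.Ideal

/-!
A quadratic form in an even number of variables with invertible polar matrix is, étale locally, split.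
-/

set_option autoImplicit false
set_option linter.style.haveILetI false
universe u

open Matrix

namespace Groth.L28.QuadSplit

variable {A B : Type u} [CommRing A] [CommRing B] {ι κ : Type} [Fintype ι] [Fintype κ]

/-- the quadratic function of a matrix -/
def qv (T : Matrix ι ι A) (x : ι → A) : A := x ⬝ᵥ T *ᵥ x

/-- its polar -/
def pol (T : Matrix ι ι A) (x y : ι → A) : A := x ⬝ᵥ (T + Tᵀ) *ᵥ y

variable (T : Matrix ι ι A)

lemma pol_comm (x y : ι → A) : pol T x y = pol T y x := by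
  rw [pol, pol, dotProduct_mulVec, dotProduct_comm, ← mulVec_transpose, transpose_add, transpose_transpose,
    add_comm Tᵀ T]

lemma pol_self (x : ι → A) : pol T x x = 2 * qv T x := by
  rw [pol, qv, add_mulVec, dotProduct_add, dotProduct_mulVec x Tᵀ, dotProduct_comm (x ᵥ* Tᵀ) x,
    vecMul_transpose, two_mul]

lemma qv_add (x y : ι → A) : qv T (x + y) = qv T x + qv T y + pol T x y := by
  simp only [qv, pol, mulVec_add, add_mulVec, dotProduct_add, add_dotProduct]
  rw [dotProduct_mulVec x Tᵀ, vecMul_transpose, dotProduct_comm (T *ᵥ x) y]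
  ring

lemma qv_smul (c : A) (x : ι → A) : qv T (c • x) = c ^ 2 * qv T x := by
  simp only [qv, mulVec_smul, dotProduct_smul, smul_dotProduct, smul_eq_mul]; ring

lemma pol_add_left (x y z : ι → A) : pol T (x + y) z = pol T x z + pol T y z := by
  simp [pol, add_dotProduct]

lemma pol_add_right (x y z : ι → A) : pol T x (y + z) = pol T x y + pol T x z := by
  simp [pol, mulVec_add, dotProduct_add]

lemma pol_smul_left (c : A) (x y : ι → A) : pol T (c • x) y = c * pol T x y := by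
  simp [pol, smul_dotProduct]

lemma pol_smul_right (c : A) (x y : ι → A) : pol T x (c • y) = c * pol T x y := by
  simp [pol, mulVec_smul, dotProduct_smul]

lemma map_qv (φ : A →+* B) (x : ι → A) : φ (qv T x) = qv (T.map φ) (φ ∘ x) := by
  rw [qv, qv, RingHom.map_dotProduct]
  congr 1
  funext i
  exact RingHom.map_mulVec φ T x i

lemma map_pol (φ : A →+* B) (x y : ι → A) : φ (pol T x y) = pol (T.map φ) (φ ∘ x) (φ ∘ y) := by
  rw [pol, pol, RingHom.map_dotProduct]
  congr 1
  funext i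
  rw [Function.comp_apply, RingHom.map_mulVec, Matrix.map_add φ (map_add φ), transpose_map]

lemma qv_mulVec (g : Matrix ι κ A) (x : κ → A) : qv T (g *ᵥ x) = qv (gᵀ * T * g) x := by
  rw [qv, qv, ← mulVec_mulVec, ← mulVec_mulVec, dotProduct_mulVec x gᵀ, vecMul_transpose]

lemma transform_polar (g : Matrix ι κ A) :
    gᵀ * T * g + (gᵀ * T * g)ᵀ = gᵀ * (T + Tᵀ) * g := by
  simp [transpose_mul, Matrix.mul_add, Matrix.add_mul, Matrix.mul_assoc]

lemma transform_diag (g : Matrix ι κ A) (i : κ) : (gᵀ * T * g) i i = qv T (fun a => g a i) := by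
  rw [Matrix.mul_assoc, Matrix.mul_apply', qv]
  congr 1

lemma transform_polar_apply (g : Matrix ι κ A) (i j : κ) :
    (gᵀ * (T + Tᵀ) * g) i j = pol T (fun a => g a i) (fun a => g a j) := by
  rw [Matrix.mul_assoc, Matrix.mul_apply', pol]
  congr 1

lemma isUnit_polar_map (φ : A →+* B) [DecidableEq ι] (hG : IsUnit (T + Tᵀ).det) :
    IsUnit (T.map φ + (T.map φ)ᵀ).det := by
  rw [← transpose_map, ← Matrix.map_add φ (map_add φ)]
  have := (RingHom.map_det φ (T + Tᵀ))
  rw [RingHom.mapMatrix_apply] at this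
  rw [← this]
  exact hG.map φ

/-- a plane with nondegenerate polar and first value nonzero -/
lemma exists_plane [IsDomain A] [DecidableEq ι] (hG : (T + Tᵀ).det ≠ 0) {i j : ι} (hij : i ≠ j) :
    ∃ a b : ι → A, qv T a ≠ 0 ∧ pol T a b ^ 2 - 4 * qv T a * qv T b ≠ 0 := by
  have key : ∃ a b : ι → A, pol T a b ^ 2 - 4 * qv T a * qv T b ≠ 0 := by
    by_contra h
    push Not at h
    let u : ι → A := Pi.single i 1
    have hu : ∃ y, pol T u y ≠ 0 := by
      by_contra h0
      push Not at h0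
      refine hG (det_eq_zero_of_row_eq_zero i fun k => ?_)
      simpa [pol, u] using h0 (Pi.single k 1)
    obtain ⟨y, hy⟩ := hu
    have hQ : qv T u ≠ 0 := fun h0 => hy (by
      have := h u y
      rw [h0] at this
      simpa using this)
    have h4 : (2 : A) ≠ 0 := fun h0 => hy (by
      have := h u y
      rw [show (4 : A) = 2 * 2 by norm_num, h0] at this
      simpa using this)
    -- polarisation
    have hpol : ∀ a b, pol T u a * pol T u b = 2 * qv T u * pol T a b := fun a b => by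
      have h1 := h u a; have h2 := h u b; have h3 := h u (a + b)
      rw [pol_add_right, qv_add] at h3
      refine mul_left_cancel₀ h4 ?_
      linear_combination h3 - h1 - h2
    let z : ι → A := pol T u (Pi.single j 1) • Pi.single i 1 - pol T u (Pi.single i 1) • Pi.single j 1
    have hz : pol T u z = 0 := by
      simp only [z, sub_eq_add_neg, ← neg_smul, pol_add_right, pol_smul_right]; ring
    have hzi : z i = pol T u (Pi.single j 1) := by simp [z, hij]
    have hzj : z j = -pol T u (Pi.single i 1) := by simp [z, hij.symm]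
    have hz0 : z = 0 := by
      refine eq_zero_of_mulVec_eq_zero hG (funext fun k => ?_)
      have := hpol (Pi.single k 1) z
      rw [hz, mul_zero, eq_comm] at this
      simpa [pol] using (mul_eq_zero.1 this).resolve_left (mul_ne_zero h4 hQ)
    have : pol T u (Pi.single i 1) = 0 := neg_eq_zero.1 (hzj ▸ congrFun hz0 j)
    exact hQ ((mul_eq_zero.1 ((pol_self T u).symm.trans this)).resolve_left h4)
  obtain ⟨a, b, hab⟩ := key
  by_cases ha : qv T a = 0
  · by_cases hb : qv T b = 0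
    · refine ⟨a + b, b, ?_, ?_⟩
      · rw [qv_add, ha, hb]
        intro h; apply hab
        rw [ha, hb]
        simp only [zero_add] at h
        rw [h]; ring
      · rw [pol_add_left, pol_self, hb]
        rw [ha, hb] at hab
        simpa using hab
    · exact ⟨b, a, hb, by rw [pol_comm]; convert hab using 1; ring⟩
  · exact ⟨a, b, ha, hab⟩

/-- étale neighbourhoods of a prime -/
def EtNbhd (A : Type u) [CommRing A] (p : PrimeSpectrum A)
    (P : ∀ (B : Type u) [CommRing B], (A →+* B) → PrimeSpectrum B → Prop) : Prop :=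
  ∃ (B : Type u) (_ : CommRing B) (φ : A →+* B), φ.Etale ∧ ∃ q : PrimeSpectrum B,
    PrimeSpectrum.comap φ q = p ∧ P B φ q

lemma away_nbhd {p : PrimeSpectrum A} {f : A} (hf : f ∉ p.asIdeal)
    {P : ∀ (B : Type u) [CommRing B], (A →+* B) → PrimeSpectrum B → Prop}
    (h : ∀ q : PrimeSpectrum (Localization.Away f),
      PrimeSpectrum.comap (algebraMap A (Localization.Away f)) q = p →
        P _ (algebraMap A (Localization.Away f)) q) :
    EtNbhd A p P := by
  obtain ⟨q, hq⟩ : p ∈ Set.range (PrimeSpectrum.comap (algebraMap A (Localization.Away f))) := by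
    rw [PrimeSpectrum.localization_away_comap_range (Localization.Away f) f]
    exact hf
  exact ⟨_, _, _, RingHom.etale_algebraMap.2 (Algebra.Etale.of_isLocalizationAway f), q, hq, h q hq⟩

theorem exists_hyperbolic_pair (T : Matrix ι ι A) [DecidableEq ι] (hG : IsUnit (T + Tᵀ).det)
    {i j : ι} (hij : i ≠ j) (p : PrimeSpectrum A) :
    EtNbhd A p fun B _ φ _ => ∃ v w : ι → B,
      qv (T.map φ) v = 0 ∧ qv (T.map φ) w = 0 ∧ pol (T.map φ) v w = 1 := by
  haveI := p.isPrime
  let π := Ideal.Quotient.mk p.asIdeal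
  obtain ⟨a', b', ha, hab⟩ := exists_plane (T.map π) (isUnit_polar_map T π hG).ne_zero hij
  obtain ⟨a, rfl⟩ : ∃ a, π ∘ a = a' :=
    ⟨fun k => (Ideal.Quotient.mk_surjective (a' k)).choose,
      funext fun k => (Ideal.Quotient.mk_surjective (a' k)).choose_spec⟩
  obtain ⟨b, rfl⟩ : ∃ b, π ∘ b = b' :=
    ⟨fun k => (Ideal.Quotient.mk_surjective (b' k)).choose,
      funext fun k => (Ideal.Quotient.mk_surjective (b' k)).choose_spec⟩
  set f := qv T a * (pol T a b ^ 2 - 4 * qv T a * qv T b) with hf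
  have hfp : f ∉ p.asIdeal := by
    rw [← Ideal.Quotient.eq_zero_iff_mem, hf, map_mul, map_sub, map_mul, map_mul, map_pow, map_qv, map_qv,
      map_pol, map_ofNat]
    exact mul_ne_zero ha hab
  obtain ⟨A₁, _, φ₁, he₁, p₁, hp₁, hu⟩ :=
    away_nbhd (P := fun B _ φ _ => IsUnit (φ f)) hfp fun q _ => IsLocalization.Away.algebraMap_isUnit f
  rw [hf, map_mul, IsUnit.mul_iff] at hu
  obtain ⟨c, hc⟩ := hu.1
  obtain ⟨d, hd⟩ := hu.2
  rw [map_sub, map_mul, map_mul, map_pow, map_ofNat] at hd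
  set Qa := φ₁ (qv T a)
  set Qb := φ₁ (qv T b)
  set Pab := φ₁ (pol T a b)
  let S : StandardEtalePair A₁ :=
    { f := Polynomial.X ^ 2 + Polynomial.C (↑c⁻¹ * Pab) * Polynomial.X + Polynomial.C (↑c⁻¹ * Qb)
      monic_f := by monicity!
      g := 1
      cond := ⟨(2 * Polynomial.X + Polynomial.C (↑c⁻¹ * Pab)) * Polynomial.C (↑d⁻¹ * Qa ^ 2),
        -(4 * Polynomial.C (↑d⁻¹ * Qa ^ 2)), 0, by
          have h : (↑c⁻¹ * Pab) ^ 2 - 4 * (↑c⁻¹ * Qb) = (↑c⁻¹ : A₁) ^ 2 * (Pab ^ 2 - 4 * Qa * Qb) := by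
            have : (↑c⁻¹ : A₁) * Qa = 1 := by rw [← hc, Units.inv_mul]
            linear_combination 4 * ↑c⁻¹ * Qb * this
          have h' : ((↑c⁻¹ * Pab) ^ 2 - 4 * (↑c⁻¹ * Qb)) * (↑d⁻¹ * Qa ^ 2) = 1 := by
            rw [h, ← hd, ← hc, show (↑c⁻¹ : A₁) ^ 2 * ↑d * (↑d⁻¹ * ↑c ^ 2) = (↑c⁻¹ * ↑c) ^ 2 * (↑d * ↑d⁻¹) by ring,
              Units.inv_mul, Units.mul_inv, one_pow, one_mul]
          have h'' := congrArg Polynomial.C h'
          simp only [map_mul, map_sub, map_pow, map_ofNat, map_one] at h''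
          simp only [Polynomial.derivative_add, Polynomial.derivative_X_pow, Polynomial.derivative_C_mul,
            Polynomial.derivative_X, Polynomial.derivative_C]
          simp only [map_mul, map_pow, Nat.cast_ofNat, map_ofNat]
          linear_combination h''⟩ }
  -- a point above `p₁`
  obtain ⟨q, hq⟩ : ∃ q : PrimeSpectrum S.Ring, PrimeSpectrum.comap (algebraMap A₁ S.Ring) q = p₁ := by
    haveI := p₁.isPrime
    haveI : Nontrivial A₁ :=
      ⟨⟨0, 1, fun h => p₁.isPrime.ne_top ((Ideal.eq_top_iff_one _).2 (h ▸ p₁.asIdeal.zero_mem))⟩⟩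
    let K := AlgebraicClosure p₁.asIdeal.ResidueField
    letI : Algebra A₁ K := ((algebraMap p₁.asIdeal.ResidueField K).comp (algebraMap A₁ _)).toAlgebra
    have hdeg : (S.f.map (algebraMap A₁ K)).degree ≠ 0 := by
      rw [S.monic_f.degree_map]
      have : S.f.natDegree = 2 := by simp only [S]; compute_degree!
      rw [Polynomial.degree_eq_natDegree S.monic_f.ne_zero, this]; norm_num
    obtain ⟨z, hz⟩ := IsAlgClosed.exists_root _ hdeg
    let h : S.Ring →ₐ[A₁] K := S.lift z ⟨by rw [Polynomial.aeval_def, ← Polynomial.eval_map]; exact hz,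
      by simp [S]⟩
    refine ⟨⟨RingHom.ker h.toRingHom, RingHom.ker_isPrime _⟩, PrimeSpectrum.ext ?_⟩
    ext t
    rw [PrimeSpectrum.comap_asIdeal, Ideal.mem_comap, RingHom.mem_ker]
    show h (algebraMap A₁ _ t) = 0 ↔ _
    rw [h.commutes, RingHom.algebraMap_toAlgebra, RingHom.comp_apply,
      map_eq_zero_iff _ (algebraMap p₁.asIdeal.ResidueField K).injective, Ideal.algebraMap_residueField_eq_zero]
  refine ⟨S.Ring, inferInstance, (algebraMap A₁ S.Ring).comp φ₁,
    RingHom.Etale.stableUnderComposition φ₁ _ he₁ (RingHom.etale_algebraMap.2 inferInstance), q,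
    by rw [PrimeSpectrum.comap_comp_apply, hq, hp₁], ?_⟩
  set ψ := (algebraMap A₁ S.Ring).comp φ₁ with hψ
  let x := S.X
  have hx : x ^ 2 + algebraMap A₁ _ (↑c⁻¹ * Pab) * x + algebraMap A₁ _ (↑c⁻¹ * Qb) = 0 := by
    simpa [S, x] using S.hasMap_X.1
  let a₁ := ψ ∘ a; let b₁ := ψ ∘ b
  let v := x • a₁ + b₁
  have hQa : qv (T.map ψ) a₁ = algebraMap A₁ _ Qa := (map_qv T ψ a).symm
  have hQb : qv (T.map ψ) b₁ = algebraMap A₁ _ Qb := (map_qv T ψ b).symm
  have hPab : pol (T.map ψ) a₁ b₁ = algebraMap A₁ _ Pab := (map_pol T ψ a b).symm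
  have hcc : algebraMap A₁ S.Ring ↑c⁻¹ * algebraMap A₁ S.Ring Qa = 1 := by
    rw [← map_mul, ← hc, Units.inv_mul, map_one]
  have hv : qv (T.map ψ) v = 0 := by
    rw [qv_add, qv_smul, pol_smul_left, hQa, hQb, hPab]
    rw [map_mul, map_mul] at hx
    linear_combination algebraMap A₁ S.Ring Qa * hx -
      (algebraMap A₁ S.Ring Pab * x + algebraMap A₁ S.Ring Qb) * hcc
  have hD : pol (T.map ψ) v a₁ ^ 2 = algebraMap A₁ _ ↑d := by
    have e : qv (T.map ψ) v = x ^ 2 * algebraMap A₁ _ Qa + algebraMap A₁ _ Qb + x * algebraMap A₁ _ Pab := by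
      rw [qv_add, qv_smul, pol_smul_left, hQa, hQb, hPab]
    rw [hv] at e
    rw [pol_add_left, pol_smul_left, pol_self, pol_comm _ b₁ a₁, hQa, hPab, hd, map_sub, map_mul, map_mul,
      map_pow, map_ofNat]
    linear_combination -4 * algebraMap A₁ S.Ring Qa * e
  have hDu : IsUnit (pol (T.map ψ) v a₁) :=
    (isUnit_pow_iff two_ne_zero).1 (hD ▸ d.isUnit.map _)
  let w := (↑hDu.unit⁻¹ : S.Ring) • a₁
  have hvw : pol (T.map ψ) v w = 1 := by
    rw [pol_smul_right]; exact hDu.val_inv_mul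
  refine ⟨v, w + (-qv (T.map ψ) w) • v, hv, ?_, ?_⟩
  · rw [qv_add, qv_smul (T.map ψ) _ v, hv, pol_smul_right, pol_comm _ w v, hvw]; ring
  · rw [pol_add_right, hvw, pol_smul_right, pol_self, hv]; ring

theorem exists_block {κ : Type} [Fintype κ] [DecidableEq κ]
    (T : Matrix (Fin 2 ⊕ κ) (Fin 2 ⊕ κ) A) (hG : IsUnit (T + Tᵀ).det)
    (v w : Fin 2 ⊕ κ → A) (hv : qv T v = 0) (hw : qv T w = 0) (hvw : pol T v w = 1) (p : PrimeSpectrum A) :
    EtNbhd A p fun B _ φ _ => ∃ g : Matrix (Fin 2 ⊕ κ) (Fin 2 ⊕ κ) B,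
      (gᵀ * T.map φ * g) (Sum.inl 0) (Sum.inl 0) = 0 ∧ (gᵀ * T.map φ * g) (Sum.inl 1) (Sum.inl 1) = 0 ∧
      IsUnit (((gᵀ * T.map φ * g).submatrix Sum.inr Sum.inr) +
        ((gᵀ * T.map φ * g).submatrix Sum.inr Sum.inr)ᵀ).det ∧
      gᵀ * (T.map φ + (T.map φ)ᵀ) * g = fromBlocks !![0, 1; 1, 0] 0 0
        ((gᵀ * T.map φ * g).submatrix Sum.inr Sum.inr + ((gᵀ * T.map φ * g).submatrix Sum.inr Sum.inr)ᵀ) := by
  haveI := p.isPrime
  let K := p.asIdeal.ResidueField
  let π : A →+* K := algebraMap A K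
  have hli : LinearIndependent K ![π ∘ v, π ∘ w] := by
    rw [LinearIndependent.pair_iff]
    intro s t hst
    have h1 := congrArg (pol (T.map π) (π ∘ w)) hst
    have h2 := congrArg (pol (T.map π) (π ∘ v)) hst
    rw [pol_add_right, pol_smul_right, pol_smul_right, ← map_pol, ← map_pol, pol_comm T w v, pol_self T w,
      hw, hvw, show pol (T.map π) (π ∘ w) 0 = 0 by simp [pol]] at h1
    rw [pol_add_right, pol_smul_right, pol_smul_right, ← map_pol, ← map_pol, pol_self T v, hv, hvw,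
      show pol (T.map π) (π ∘ v) 0 = 0 by simp [pol]] at h2
    simp at h1 h2
    exact ⟨h1, h2⟩
  let bK := Module.Basis.sumExtend hli
  haveI : Finite (Fin 2 ⊕ Module.Basis.sumExtendIndex hli) := Module.Finite.finite_basis bK
  haveI := Fintype.ofFinite (Fin 2 ⊕ Module.Basis.sumExtendIndex hli)
  have hcard : Fintype.card (Fin 2 ⊕ Module.Basis.sumExtendIndex hli) = Fintype.card (Fin 2 ⊕ κ) := by
    rw [← Module.finrank_eq_card_basis bK, Module.finrank_fintype_fun_eq_card]
  haveI : Finite (Module.Basis.sumExtendIndex hli) := Finite.sum_right (Fin 2)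
  haveI := Fintype.ofFinite (Module.Basis.sumExtendIndex hli)
  let eκ : κ ≃ Module.Basis.sumExtendIndex hli := Fintype.equivOfCardEq (by
    rw [← Nat.card_eq_fintype_card, Nat.card_sum, ← Nat.card_eq_fintype_card, Nat.card_sum,
      Nat.card_eq_fintype_card (α := κ), Nat.card_eq_fintype_card (α := Module.Basis.sumExtendIndex hli)] at hcard
    omega)
  let b' := bK.reindex ((Equiv.refl (Fin 2)).sumCongr eκ).symm
  -- clear denominators
  choose t ht using fun k : κ => IsLocalization.exist_integer_multiples_of_finite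
    (nonZeroDivisors (A ⧸ p.asIdeal)) (S := K) (b' (Sum.inr k))
  choose z hz using ht
  choose y hy using fun k a => Ideal.Quotient.mk_surjective (z k a)
  let g₀ : Matrix (Fin 2 ⊕ κ) (Fin 2 ⊕ κ) A := of fun a i => Sum.elim (fun n => ![v a, w a] n) (fun k => y k a) i
  let c : Fin 2 ⊕ κ → K := Sum.elim (fun _ => 1) fun k => algebraMap (A ⧸ p.asIdeal) K (t k)
  have hg₀ : π g₀.det ≠ 0 := by
    rw [RingHom.map_det, RingHom.mapMatrix_apply]
    have e : g₀.map π = of fun a i => c i * (Pi.basisFun K (Fin 2 ⊕ κ)).toMatrix b' a i := by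
      ext a i
      rw [Matrix.map_apply, of_apply, Module.Basis.toMatrix_apply, Pi.basisFun_repr]
      rcases i with n | k
      · have : b' (Sum.inl n) = ![π ∘ v, π ∘ w] n := by
          simp [b', bK, Module.Basis.sumExtend]
          erw [Equiv.Set.sumDiffSubset_apply_inl]
          · rfl
          · exact (hli.linearIndepOn_id).subset_extend _
        rw [this]
        fin_cases n <;> simp [g₀, c]
      · have h1 := hz k a
        rw [Algebra.smul_def] at h1
        simp only [g₀, c, of_apply, Sum.elim_inr]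
        rw [← h1, ← hy k a]
        rfl
    rw [e, det_mul_row]
    refine mul_ne_zero (Finset.prod_ne_zero_iff.2 fun i _ => ?_) ?_
    · rcases i with n | k
      · exact one_ne_zero
      · exact (IsLocalization.map_units K (t k)).ne_zero
    · letI := (Pi.basisFun K (Fin 2 ⊕ κ)).invertibleToMatrix b'
      exact (isUnit_det_of_invertible _).ne_zero
  -- orthogonalise
  let N : Matrix (Fin 2) κ A := of fun n k => ![-pol T (y k) w, -pol T (y k) v] n
  let g₁ := g₀ * fromBlocks 1 N 0 1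
  have hdet : g₁.det = g₀.det := by
    rw [det_mul, det_fromBlocks_zero₂₁, det_one, det_one, mul_one, mul_one]
  have col0 : (fun a => g₁ a (Sum.inl 0)) = v := by
    funext a; simp [g₁, mul_apply, g₀, Fintype.sum_sum_type, Fin.sum_univ_two]
  have col1 : (fun a => g₁ a (Sum.inl 1)) = w := by
    funext a; simp [g₁, mul_apply, g₀, Fintype.sum_sum_type, Fin.sum_univ_two]
  have colk : ∀ k, (fun a => g₁ a (Sum.inr k)) = -pol T (y k) w • v + (-pol T (y k) v • w + y k) := fun k => by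
    funext a
    simp [g₁, mul_apply, g₀, Fintype.sum_sum_type, Fin.sum_univ_two, N, Matrix.one_apply]
    ring
  have hperp : ∀ k, pol T v (fun a => g₁ a (Sum.inr k)) = 0 ∧ pol T w (fun a => g₁ a (Sum.inr k)) = 0 := fun k => by
    rw [colk]
    simp only [pol_add_right, pol_smul_right, pol_self, hv, hw, pol_comm T w v, hvw, pol_comm T v (y k),
      pol_comm T w (y k)]
    constructor <;> ring
  let T' := g₁ᵀ * T * g₁
  have h00 : T' (Sum.inl 0) (Sum.inl 0) = 0 := by
    show (g₁ᵀ * T * g₁) _ _ = 0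
    rw [transform_diag, col0, hv]
  have h11 : T' (Sum.inl 1) (Sum.inl 1) = 0 := by
    show (g₁ᵀ * T * g₁) _ _ = 0
    rw [transform_diag, col1, hw]
  have hblock : g₁ᵀ * (T + Tᵀ) * g₁ =
      fromBlocks !![0, 1; 1, 0] 0 0 (T'.submatrix Sum.inr Sum.inr + (T'.submatrix Sum.inr Sum.inr)ᵀ) := by
    ext i j
    rcases i with i | i <;> rcases j with j | j
    · rw [transform_polar_apply]
      fin_cases i <;> fin_cases j <;>
        simp [col0, col1, pol_self, hv, hw, hvw, pol_comm T w v]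
    · rw [transform_polar_apply]
      fin_cases i <;> simp [col0, col1, (hperp j).1, (hperp j).2]
    · rw [transform_polar_apply, pol_comm]
      fin_cases j <;> simp [col0, col1, (hperp i).1, (hperp i).2]
    · rw [← transform_polar]
      rfl
  refine away_nbhd (f := g₁.det) (by rw [← Ideal.algebraMap_residueField_eq_zero, hdet]; exact hg₀) fun q _ => ?_
  set φ := algebraMap A (Localization.Away g₁.det)
  refine ⟨g₁.map φ, ?_⟩
  have eT : (g₁.map φ)ᵀ * T.map φ * g₁.map φ = T'.map φ := by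
    rw [← transpose_map, ← Matrix.map_mul, ← Matrix.map_mul]
  have eG : (g₁.map φ)ᵀ * (T.map φ + (T.map φ)ᵀ) * g₁.map φ = (g₁ᵀ * (T + Tᵀ) * g₁).map φ := by
    rw [← transpose_map, ← transpose_map, ← Matrix.map_add φ (map_add φ), ← Matrix.map_mul, ← Matrix.map_mul]
  have eS : (T'.map φ).submatrix Sum.inr Sum.inr + ((T'.map φ).submatrix Sum.inr Sum.inr)ᵀ =
      (T'.submatrix Sum.inr Sum.inr + (T'.submatrix Sum.inr Sum.inr)ᵀ).map φ := by
    rw [Matrix.map_add φ (map_add φ)]; rfl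
  rw [eT, eG, hblock]
  refine ⟨by simp [h00], by simp [h11], ?_, ?_⟩
  · rw [eS]
    have hu : IsUnit ((g₁ᵀ * (T + Tᵀ) * g₁).map φ).det := by
      have e : (g₁ᵀ * (T + Tᵀ) * g₁).det = g₁.det * (T + Tᵀ).det * g₁.det := by
        simp only [det_mul, det_transpose]
      rw [← RingHom.mapMatrix_apply, ← RingHom.map_det, congrArg φ e, map_mul, map_mul]
      have h := IsLocalization.Away.algebraMap_isUnit (S := Localization.Away g₁.det) g₁.det
      exact (h.mul (hG.map φ)).mul h
    rw [hblock, fromBlocks_map, Matrix.map_zero _ (map_zero _), Matrix.map_zero _ (map_zero _), det_fromBlocks_zero₂₁] at hu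
    exact (IsUnit.mul_iff.1 hu).2
  · rw [fromBlocks_map, Matrix.map_zero _ (map_zero _), Matrix.map_zero _ (map_zero _), eS]
    congr 1
    ext i j; fin_cases i <;> fin_cases j <;> simp

lemma qv_block {κ : Type} [Fintype κ] [DecidableEq κ] (T : Matrix (Fin 2 ⊕ κ) (Fin 2 ⊕ κ) A)
    (h00 : T (Sum.inl 0) (Sum.inl 0) = 0) (h11 : T (Sum.inl 1) (Sum.inl 1) = 0)
    (hb : T + Tᵀ = fromBlocks !![0, 1; 1, 0] 0 0 (T.submatrix Sum.inr Sum.inr + (T.submatrix Sum.inr Sum.inr)ᵀ))
    (z : Fin 2 ⊕ κ → A) :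
    qv T z = z (Sum.inl 0) * z (Sum.inl 1) + qv (T.submatrix Sum.inr Sum.inr) (z ∘ Sum.inr) := by
  let e0 : Fin 2 ⊕ κ → A := Pi.single (Sum.inl 0) 1
  let e1 : Fin 2 ⊕ κ → A := Pi.single (Sum.inl 1) 1
  let c : Fin 2 ⊕ κ → A := Sum.elim 0 (z ∘ Sum.inr)
  have hz : z = z (Sum.inl 0) • e0 + (z (Sum.inl 1) • e1 + c) := by
    funext i
    rcases i with i | i
    · fin_cases i <;> simp [e0, e1, c]
    · simp [e0, e1, c]
  have hq0 : qv T e0 = 0 := by simp [qv, e0, h00]
  have hq1 : qv T e1 = 0 := by simp [qv, e1, h11]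
  have hqc : qv T c = qv (T.submatrix Sum.inr Sum.inr) (z ∘ Sum.inr) := by
    simp [qv, dotProduct, mulVec, Fintype.sum_sum_type, c]
  have h01 : pol T e0 e1 = 1 := by simp [pol, hb, e0, e1]
  have h0c : pol T e0 c = 0 := by
    rw [pol, hb]
    simp [e0, c, mulVec, dotProduct, Fintype.sum_sum_type]
  have h1c : pol T e1 c = 0 := by
    rw [pol, hb]
    simp [e1, c, mulVec, dotProduct, Fintype.sum_sum_type]
  conv_lhs => rw [hz]
  simp only [qv_add, qv_smul, pol_add_right, pol_smul_left, pol_smul_right, hq0, hq1, hqc, h01, h0c, h1c]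
  ring

lemma qv_submatrix {ι' : Type} [Fintype ι'] (e : ι' ≃ ι) (z : ι' → A) :
    qv T (z ∘ e.symm) = qv (T.submatrix e e) z := by
  rw [qv, qv, submatrix_mulVec_equiv]
  simp only [dotProduct]
  exact (Fintype.sum_equiv e _ _ fun i => by simp).symm

/-- reindexing of `Fin (m+1) ⊕ Fin (m+1)` -/
def eSucc (m : ℕ) : Fin 2 ⊕ (Fin m ⊕ Fin m) ≃ Fin (m + 1) ⊕ Fin (m + 1) where
  toFun := Sum.elim ![Sum.inl 0, Sum.inr 0] (Sum.map Fin.succ Fin.succ)
  invFun := Sum.elim (Fin.cases (Sum.inl 0) fun i => Sum.inr (Sum.inl i))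
    (Fin.cases (Sum.inl 1) fun i => Sum.inr (Sum.inr i))
  left_inv := by rintro (i | (i | i)) <;> [fin_cases i; skip; skip] <;> simp
  right_inv := by rintro (i | i) <;> induction i using Fin.cases <;> simp

theorem split_nbhd : ∀ (m : ℕ) {A : Type u} [CommRing A] (T : Matrix (Fin m ⊕ Fin m) (Fin m ⊕ Fin m) A),
    IsUnit (T + Tᵀ).det → ∀ p : PrimeSpectrum A, EtNbhd A p fun B _ φ _ =>
      ∃ g : Matrix (Fin m ⊕ Fin m) (Fin m ⊕ Fin m) B,
        ∀ x, qv (T.map φ) (g *ᵥ x) = ∑ j, x (Sum.inl j) * x (Sum.inr j)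
  | 0, A, _, T, _, p => ⟨A, inferInstance, RingHom.id A, RingHom.Etale.of_bijective Function.bijective_id, p,
      PrimeSpectrum.ext (by simp), 1, fun x => by simp [qv, dotProduct]⟩
  | m + 1, A, _, T, hG, p => by
    let e := eSucc m
    let T₀ := T.submatrix e e
    have hG₀ : IsUnit (T₀ + T₀ᵀ).det := by
      have : T₀ + T₀ᵀ = (T + Tᵀ).submatrix e e := by ext i j; simp [T₀]
      rw [this, det_submatrix_equiv_self]; exact hG
    obtain ⟨B, _, φ, he, q, hq, v, w, hv, hw, hvw⟩ := exists_hyperbolic_pair T₀ hG₀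
      (i := Sum.inl 0) (j := Sum.inl 1) (by simp) p
    obtain ⟨C, _, φ₂, he₂, r, hr, g₂, h00, h11, hu, hblock⟩ :=
      exists_block (T₀.map φ) (isUnit_polar_map T₀ φ hG₀) v w hv hw hvw q
    obtain ⟨D, _, φ₃, he₃, s, hs, h, hh⟩ := split_nbhd m _ hu r
    refine ⟨D, inferInstance, φ₃.comp (φ₂.comp φ), RingHom.Etale.stableUnderComposition _ _
      (RingHom.Etale.stableUnderComposition _ _ he he₂) he₃, s, by
        rw [PrimeSpectrum.comap_comp_apply, hs, PrimeSpectrum.comap_comp_apply, hr, hq], ?_⟩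
    let M := g₂.map φ₃ * fromBlocks (1 : Matrix (Fin 2) (Fin 2) D) 0 0 h
    refine ⟨M.submatrix e.symm e.symm, fun x => ?_⟩
    rw [submatrix_mulVec_equiv, Equiv.symm_symm, qv_submatrix]
    let T₃ := ((g₂ᵀ * (T₀.map φ).map φ₂ * g₂)).map φ₃
    have hT₃ : qv ((T.map (φ₃.comp (φ₂.comp φ))).submatrix e e) (M *ᵥ (x ∘ e)) =
        qv T₃ (fromBlocks (1 : Matrix (Fin 2) (Fin 2) D) 0 0 h *ᵥ (x ∘ e)) := by
      rw [← mulVec_mulVec, qv_mulVec]
      refine congrArg (qv · _) ?_
      simp only [T₃, T₀, Matrix.map_mul, transpose_map, Matrix.map_map]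
      rfl
    rw [hT₃, qv_block T₃]
    · have hz : (fromBlocks (1 : Matrix (Fin 2) (Fin 2) D) 0 0 h *ᵥ (x ∘ e)) =
          Sum.elim (x ∘ e ∘ Sum.inl) (h *ᵥ (x ∘ e ∘ Sum.inr)) := by
        rw [fromBlocks_mulVec]; simp [Function.comp_assoc]
      rw [hz, Sum.elim_comp_inr, Fin.sum_univ_succ]
      simp only [Sum.elim_inl]
      refine congrArg₂ (· + ·) rfl ((hh _).trans rfl)
    · show φ₃ _ = 0
      rw [h00, map_zero]
    · show φ₃ _ = 0
      rw [h11, map_zero]
    · rw [show T₃.submatrix Sum.inr Sum.inr = ((g₂ᵀ * (T₀.map φ).map φ₂ * g₂).submatrix Sum.inr Sum.inr).map φ₃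
        from rfl, ← transpose_map, ← Matrix.map_add φ₃ (map_add φ₃), ← transpose_map,
        ← Matrix.map_add φ₃ (map_add φ₃), transform_polar, hblock, fromBlocks_map, Matrix.map_zero _ (map_zero _), Matrix.map_zero _ (map_zero _)]
      congr 1
      ext i j; fin_cases i <;> fin_cases j <;> simp

theorem isUnit_det_of_split {m : ℕ} (T g : Matrix (Fin m ⊕ Fin m) (Fin m ⊕ Fin m) A)
    (hg : ∀ x, qv T (g *ᵥ x) = ∑ j, x (Sum.inl j) * x (Sum.inr j)) : IsUnit g.det := by
  have hpol : ∀ x y, pol T (g *ᵥ x) (g *ᵥ y) =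
      ∑ j, (x (Sum.inl j) * y (Sum.inr j) + y (Sum.inl j) * x (Sum.inr j)) := fun x y => by
    have h := qv_add T (g *ᵥ x) (g *ᵥ y)
    rw [← mulVec_add, hg, hg, hg] at h
    simp only [Pi.add_apply, add_mul, mul_add, Finset.sum_add_distrib] at h ⊢
    linear_combination -h
  have he : gᵀ * (T + Tᵀ) * g = fromBlocks 0 1 1 0 := by
    ext i j
    rw [transform_polar_apply]
    have := hpol (Pi.single i 1) (Pi.single j 1)
    simp only [mulVec_single_one] at this
    refine this.trans ?_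
    rcases i with i | i <;> rcases j with j | j <;>
      simp [Pi.single_apply, Matrix.one_apply, Finset.sum_add_distrib, eq_comm]
  have hs : (fromBlocks 0 1 1 0 : Matrix (Fin m ⊕ Fin m) (Fin m ⊕ Fin m) A).det *
      (fromBlocks 0 1 1 0 : Matrix (Fin m ⊕ Fin m) (Fin m ⊕ Fin m) A).det = 1 := by
    rw [← det_mul, fromBlocks_multiply]; simp
  have h2 := congrArg Matrix.det he
  rw [det_mul] at h2
  exact (IsUnit.mul_iff.1 (h2 ▸ IsUnit.of_mul_eq_one _ hs)).2

theorem split_cover {m : ℕ} (T : Matrix (Fin m ⊕ Fin m) (Fin m ⊕ Fin m) A) (hG : IsUnit (T + Tᵀ).det) :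
    ∃ (n : ℕ) (B : Fin n → Type u) (_ : ∀ t, CommRing (B t)) (_ : ∀ t, Algebra A (B t)),
      (∀ t, Algebra.Etale A (B t)) ∧
      (∀ p : PrimeSpectrum A, ∃ (t : Fin n) (q : PrimeSpectrum (B t)),
        q.asIdeal.comap (algebraMap A (B t)) = p.asIdeal) ∧
      ∀ t, ∃ g : Matrix (Fin m ⊕ Fin m) (Fin m ⊕ Fin m) (B t), IsUnit g.det ∧
        ∀ x, qv (T.map (algebraMap A (B t))) (g *ᵥ x) = ∑ j, x (Sum.inl j) * x (Sum.inr j) := by
  choose B hB φ hφ q hq g hg using split_nbhd m T hG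
  letI : ∀ p, Algebra A (B p) := fun p => (φ p).toAlgebra
  haveI : ∀ p, Algebra.Etale A (B p) := fun p => hφ p
  obtain ⟨s, hs⟩ := isCompact_univ.elim_finite_subcover
    (fun p => Set.range (PrimeSpectrum.comap (algebraMap A (B p))))
    (fun p => by
      rw [← Set.image_univ]
      exact PrimeSpectrum.isOpenMap_comap_of_hasGoingDown_of_finitePresentation _ isOpen_univ)
    (fun p _ => Set.mem_iUnion.2 ⟨p, q p, hq p⟩)
  let pt : Fin s.card → PrimeSpectrum A := fun t => (s.equivFin.symm t).1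
  refine ⟨s.card, fun t => B (pt t), fun t => hB _, fun t => inferInstance, fun t => inferInstance,
    fun p => ?_, fun t => ⟨g _, isUnit_det_of_split _ _ (hg _), hg _⟩⟩
  obtain ⟨p', hp', q', hq'⟩ := Set.mem_iUnion₂.1 (hs (Set.mem_univ p))
  obtain ⟨t, ht⟩ := s.equivFin.symm.surjective ⟨p', hp'⟩
  have : pt t = p' := congrArg Subtype.val ht
  subst this
  exact ⟨t, q', congrArg PrimeSpectrum.asIdeal hq'⟩

end Groth.L28.QuadSplit
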