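import Groth.Agent.L28.TorFacts
import Groth.Agent.L28.HomColim
import Mathlib.Algebra.Category.ModuleCat.Monoidal.Closed
import Mathlib.CategoryTheory.Monoidal.Closed.Braided
import Mathlib.Algebra.Category.ModuleCat.Monoidal.Symmetric

/-!
Tor commutes with filtered colimits in both variables.
-/

set_option autoImplicit false
universe u

open CategoryTheory CategoryTheory.Limits MonoidalCategory HomologicalComplex
open scoped TensorProduct

namespace Groth.L28.TorColim

variable {A : Type u} [CommRing A]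

/-- `M ↦ M ⊗ C`. -/
noncomputable def leftCx (C : ChainComplex (ModuleCat.{u} A) ℕ) :
    ModuleCat.{u} A ⥤ ChainComplex (ModuleCat.{u} A) ℕ where
  obj M := (((tensoringLeft _).obj M).mapHomologicalComplex _).obj C
  map f := (NatTrans.mapHomologicalComplex ((tensoringLeft _).map f) _).app C
  map_id M := by ext1 j; exact id_whiskerRight M (C.X j)
  map_comp f g := by ext1 j; exact comp_whiskerRight f g (C.X j)

/-- `N ↦ C ⊗ N`. -/
noncomputable def rightCx (C : ChainComplex (ModuleCat.{u} A) ℕ) :
    ModuleCat.{u} A ⥤ ChainComplex (ModuleCat.{u} A) ℕ where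
  obj N := ((tensorRight N).mapHomologicalComplex _).obj C
  map f := (NatTrans.mapHomologicalComplex ((tensoringRight _).map f) _).app C
  map_id N := by ext1 j; exact whiskerLeft_id (C.X j) N
  map_comp f g := by ext1 j; exact whiskerLeft_comp (C.X j) f g

variable (J : Type u) [SmallCategory J] [IsFiltered J]

theorem leftCx_preserves (C : ChainComplex (ModuleCat.{u} A) ℕ) :
    PreservesColimitsOfShape J (leftCx C) :=
  HomologicalComplex.preservesColimitsOfShape_of_eval _ fun j =>
    preservesColimitsOfShape_of_natIso (F := tensorRight (C.X j))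
      (NatIso.ofComponents (fun M => Iso.refl _) fun f => by
        simp only [Iso.refl_hom, Category.comp_id, Category.id_comp]; rfl)

theorem rightCx_preserves (C : ChainComplex (ModuleCat.{u} A) ℕ) :
    PreservesColimitsOfShape J (rightCx C) :=
  HomologicalComplex.preservesColimitsOfShape_of_eval _ fun j =>
    preservesColimitsOfShape_of_natIso (F := tensorLeft (C.X j))
      (NatIso.ofComponents (fun M => Iso.refl _) fun f => by
        simp only [Iso.refl_hom, Category.comp_id, Category.id_comp]; rfl)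

theorem tor_flip (p : ℕ) (N : ModuleCat.{u} A) :
    PreservesColimitsOfShape J ((CategoryTheory.Tor (ModuleCat.{u} A) p).flip.obj N) := by
  let Q := projectiveResolution N
  have := leftCx_preserves J Q.complex
  have := HomColim.preservesColimitsOfShape_homology (R := A) (c := ComplexShape.down ℕ) J p
  let e : (CategoryTheory.Tor (ModuleCat.{u} A) p).flip.obj N ≅
      leftCx Q.complex ⋙ HomologicalComplex.homologyFunctor _ _ p :=
    NatIso.ofComponents (fun M => Q.isoLeftDerivedObj ((tensoringLeft _).obj M) p) fun {M M'} f => by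
      show (NatTrans.leftDerived ((tensoringLeft _).map f) p).app N ≫ _ = _
      rw [Q.leftDerived_app_eq]
      exact (Category.assoc _ _ _).trans (congrArg (_ ≫ ·) ((Category.assoc _ _ _).trans
        ((congrArg (_ ≫ ·) (Iso.inv_hom_id _)).trans (Category.comp_id _))))
  exact preservesColimitsOfShape_of_natIso e.symm

lemma proj_map {P P' Q Q' : ChainComplex (ModuleCat.{u} A) ℕ} (f : P ⟶ P') (g : Q ⟶ Q')
    (a b n : ℕ) (x : (HomologicalComplex.tensorObj P Q).X n) :
    TensorCx.proj P' Q' a b n ((HomologicalComplex.tensorHom f g).f n x) =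
      TensorProduct.map (f.f a).hom (g.f b).hom (TensorCx.proj P Q a b n x) := by
  suffices H : (HomologicalComplex.tensorHom f g).f n ≫
      ModuleCat.ofHom (TensorCx.proj P' Q' a b n) =
      ModuleCat.ofHom ((TensorProduct.map (f.f a).hom (g.f b).hom).comp (TensorCx.proj P Q a b n))
    from ConcreteCategory.congr_hom H x
  refine TensorCx.hom_ext fun p q h z => ?_
  show TensorCx.proj P' Q' a b n
      ((HomologicalComplex.tensorHom f g).f n (TensorCx.ins P Q p q n h z)) =
    TensorProduct.map (f.f a).hom (g.f b).hom (TensorCx.proj P Q a b n (TensorCx.ins P Q p q n h z))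
  rw [TensorCx.map_ins]
  by_cases hab : p = a ∧ q = b
  · obtain ⟨rfl, rfl⟩ := hab
    rw [TensorCx.proj_ins_self, TensorCx.proj_ins_self]
  · rw [TensorCx.proj_ins_ne _ _ h hab, TensorCx.proj_ins_ne _ _ h hab, map_zero]

lemma square₁ {P Q Q' : ChainComplex (ModuleCat.{u} A) ℕ} {N N' : ModuleCat.{u} A} {ε : Q.X 0 ⟶ N}
    {ε' : Q'.X 0 ⟶ N'} (f : N ⟶ N') (φ : Q ⟶ Q') (comm : φ.f 0 ≫ ε' = ε ≫ f)
    (ψ : HomologicalComplex.tensorObj P Q ⟶ ((tensorRight N).mapHomologicalComplex _).obj P)
    (ψ' : HomologicalComplex.tensorObj P Q' ⟶ ((tensorRight N').mapHomologicalComplex _).obj P)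
    (h : ∀ n x, ψ.f n x = Balance.e₁ P ε n x) (h' : ∀ n x, ψ'.f n x = Balance.e₁ P ε' n x) :
    HomologicalComplex.tensorHom (𝟙 P) φ ≫ ψ' =
      ψ ≫ (NatTrans.mapHomologicalComplex ((tensoringRight (ModuleCat.{u} A)).map f)
        (ComplexShape.down ℕ)).app P := by
  refine HomologicalComplex.hom_ext _ _ fun n => ModuleCat.hom_ext (LinearMap.ext fun x => ?_)
  show ψ'.f n ((HomologicalComplex.tensorHom (𝟙 P) φ).f n x) = f.hom.lTensor (P.X n) (ψ.f n x)
  rw [h, h', Balance.e₁, Balance.e₁, LinearMap.comp_apply, LinearMap.comp_apply, proj_map,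
    HomologicalComplex.id_f, ModuleCat.hom_id, ← LinearMap.lTensor_def, ← LinearMap.comp_apply,
    ← LinearMap.lTensor_comp, ← ModuleCat.hom_comp, comm, ModuleCat.hom_comp,
    LinearMap.lTensor_comp, LinearMap.comp_apply]

lemma square₂ {P Q Q' : ChainComplex (ModuleCat.{u} A) ℕ} {M : ModuleCat.{u} A} {ε : P.X 0 ⟶ M}
    (φ : Q ⟶ Q')
    (ψ : HomologicalComplex.tensorObj P Q ⟶ ((tensorLeft M).mapHomologicalComplex _).obj Q)
    (ψ' : HomologicalComplex.tensorObj P Q' ⟶ ((tensorLeft M).mapHomologicalComplex _).obj Q')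
    (h : ∀ n x, ψ.f n x = Balance.e₂ Q ε n x) (h' : ∀ n x, ψ'.f n x = Balance.e₂ Q' ε n x) :
    HomologicalComplex.tensorHom (𝟙 P) φ ≫ ψ' =
      ψ ≫ (((tensoringLeft (ModuleCat.{u} A)).obj M).mapHomologicalComplex
        (ComplexShape.down ℕ)).map φ := by
  refine HomologicalComplex.hom_ext _ _ fun n => ModuleCat.hom_ext (LinearMap.ext fun x => ?_)
  show ψ'.f n ((HomologicalComplex.tensorHom (𝟙 P) φ).f n x) = (φ.f n).hom.lTensor M (ψ.f n x)
  rw [h, h', Balance.e₂, Balance.e₂, LinearMap.comp_apply, LinearMap.comp_apply, proj_map,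
    HomologicalComplex.id_f, ModuleCat.hom_id, ← LinearMap.lTensor_def, ← LinearMap.comp_apply,
    LinearMap.rTensor_comp_lTensor, ← LinearMap.lTensor_comp_rTensor]
  rfl

lemma zigzag {C : Type*} [Category* C] {a b c a' b' c' : C} {u : b ⟶ a} {v : b ⟶ c}
    {u' : b' ⟶ a'} {v' : b' ⟶ c'} (m : a ⟶ a') (t : b ⟶ b') (r : c ⟶ c') [IsIso u] [IsIso u']
    (h₂ : t ≫ u' = u ≫ m) (h₁ : t ≫ v' = v ≫ r) :
    m ≫ inv u' ≫ v' = inv u ≫ v ≫ r := by
  rw [← cancel_epi u, IsIso.hom_inv_id_assoc, ← reassoc_of% h₂, IsIso.hom_inv_id_assoc, h₁]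

theorem tor (p : ℕ) (M : ModuleCat.{u} A) :
    PreservesColimitsOfShape J ((CategoryTheory.Tor (ModuleCat.{u} A) p).obj M) := by
  let P := projectiveResolution M
  have hP := Balance.isRes_projectiveResolution P
  have := rightCx_preserves J P.complex
  have := HomColim.preservesColimitsOfShape_homology (R := A) (c := ComplexShape.down ℕ) J p
  have hQ := fun N : ModuleCat.{u} A => Balance.isRes_projectiveResolution (projectiveResolution N)
  choose φ₁ h₁ q₁ using fun N : ModuleCat.{u} A =>
    Balance.exists_iso₁ (N := N) P.complex (projectiveResolution N).complex _ (hQ N) hP.flat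
  choose φ₂ h₂ q₂ using fun N : ModuleCat.{u} A =>
    Balance.exists_iso₂ (M := M) P.complex (projectiveResolution N).complex (P.π.f 0) hP (hQ N).flat
  have i₁ := fun N => (HomElt.isIso_homologyMap_iff (φ₁ N) p).mpr
    (@HomElt.bijective_homologyMap_of_quasiIso _ _ _ _ _ _ (φ₁ N) (q₁ N) p)
  have i₂ := fun N => (HomElt.isIso_homologyMap_iff (φ₂ N) p).mpr
    (@HomElt.bijective_homologyMap_of_quasiIso _ _ _ _ _ _ (φ₂ N) (q₂ N) p)
  let e : (CategoryTheory.Tor (ModuleCat.{u} A) p).obj M ≅
      rightCx P.complex ⋙ HomologicalComplex.homologyFunctor _ _ p :=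
    NatIso.ofComponents (fun N =>
      (projectiveResolution N).isoLeftDerivedObj ((tensoringLeft _).obj M) p ≪≫
        (@asIso _ _ _ _ (HomologicalComplex.homologyMap (φ₂ N) p) (i₂ N)).symm ≪≫
        @asIso _ _ _ _ (HomologicalComplex.homologyMap (φ₁ N) p) (i₁ N)) fun {N N'} f => by
      let φ := ProjectiveResolution.lift f (projectiveResolution N) (projectiveResolution N')
      have comm : φ.f 0 ≫ (projectiveResolution N').π.f 0 =
          (projectiveResolution N).π.f 0 ≫ f :=
        ProjectiveResolution.lift_commutes_zero f _ _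
      have hnat := ProjectiveResolution.isoLeftDerivedObj_hom_naturality f
        (projectiveResolution N) (projectiveResolution N') φ comm ((tensoringLeft _).obj M) p
      have c₁ := square₁ f φ comm (φ₁ N) (φ₁ N') (h₁ N) (h₁ N')
      have c₂ := square₂ φ (φ₂ N) (φ₂ N') (h₂ N) (h₂ N')
      have e₁ := congrArg (fun ψ => HomologicalComplex.homologyMap ψ p) c₁
      have e₂ := congrArg (fun ψ => HomologicalComplex.homologyMap ψ p) c₂
      simp only [HomologicalComplex.homologyMap_comp] at e₁ e₂
      simp only [Iso.trans_hom, Iso.symm_hom, Category.assoc]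
      show ((tensoringLeft _).obj M |>.leftDerived p).map f ≫ _ = _
      refine (reassoc_of% hnat) _ |>.trans ?_
      refine congrArg (_ ≫ ·) ?_
      exact @zigzag (ModuleCat.{u} A) _ _ _ _ _ _ _ (HomologicalComplex.homologyMap (φ₂ N) p)
        (HomologicalComplex.homologyMap (φ₁ N) p) (HomologicalComplex.homologyMap (φ₂ N') p)
        (HomologicalComplex.homologyMap (φ₁ N') p) _ _ _ (i₂ N) (i₂ N') e₂ e₁
  exact preservesColimitsOfShape_of_natIso e.symm

end Groth.L28.TorColim
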